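import Groth.Agent.FPApproxLib.Main
import Groth.Agent.SubLib.ExtendWO
import Groth.Agent.ProjBundleLib.FTSub

/-! A finite type module is a directed colimit of finitely presented ones with surjective transitions. -/

set_option autoImplicit false
set_option linter.style.haveILetI false
set_option backward.isDefEq.respectTransparency false

universe u

open CategoryTheory CategoryTheory.Limits AlgebraicGeometry TopologicalSpace Opposite

noncomputable section

namespace Groth.Agent.FPApproxLib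

variable {X : Scheme.{u}}

theorem hom_ext_opens {E' N : X.Modules} (f g : E' ⟶ N) (ι : Type u) (W : ι → X.Opens) (hW : ∀ a, IsAffineOpen (W a))
    (hcov : ⨆ a, W a = ⊤) [Coh.IsQCoh E'] (h : ∀ a (x : Γ(E', W a)), f.app (W a) x = g.app (W a) x) : f = g := by
  refine Scheme.Modules.hom_ext _ _ fun U => ConcreteCategory.hom_ext _ _ fun x => ?_
  have loc : ∀ z : U, ∃ (a : ι) (b : Γ(X, W a)), z.1 ∈ X.basicOpen b ∧ X.basicOpen b ≤ U := fun z => by
    obtain ⟨a, ha⟩ := Opens.mem_iSup.mp (hcov.ge (Set.mem_univ z.1) : z.1 ∈ ⨆ a, W a)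
    obtain ⟨b, hb, hzb⟩ := (hW a).exists_basicOpen_le (V := U) ⟨z.1, z.2⟩ ha
    exact ⟨a, b, hzb, hb⟩
  choose a b hzb hbU using loc
  refine TopCat.Sheaf.eq_of_locally_eq' (⟨N.presheaf, N.isSheaf⟩ : TopCat.Sheaf Ab.{u} X.carrier)
    (fun z : U => X.basicOpen (b z)) U (fun z => homOfLE (hbU z))
    (fun y hy => Opens.mem_iSup.2 ⟨⟨y, hy⟩, hzb ⟨y, hy⟩⟩) _ _ fun z => ?_
  refine (ConcreteCategory.congr_hom (f.mapPresheaf.naturality (homOfLE (hbU z)).op) x).symm.trans
    (Eq.trans ?_ (ConcreteCategory.congr_hom (g.mapPresheaf.naturality (homOfLE (hbU z)).op) x))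
  show f.app (X.basicOpen (b z)) (E'.presheaf.map _ x) = g.app (X.basicOpen (b z)) (E'.presheaf.map _ x)
  obtain ⟨n, s, hs⟩ := (QCohLib.locAt E' (hW (a z))).extend (b z) (E'.presheaf.map (homOfLE (hbU z)).op x)
  have hf := congrArg (f.app (X.basicOpen (b z))) hs
  have hg := congrArg (g.app (X.basicOpen (b z))) hs
  rw [QCohLib.app_res, h, QCohLib.app_sc] at hf
  rw [QCohLib.app_res, QCohLib.app_sc] at hg
  have e := hf.symm.trans hg
  rw [CohBase.sc_apply, CohBase.sc_apply] at e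
  have hu : IsUnit (X.presheaf.map (homOfLE (X.basicOpen_le (b z))).op (b z ^ n)) := by
    rw [map_pow]
    exact (AlgebraicGeometry.RingedSpace.isUnit_res_basicOpen _ (b z)).pow n
  obtain ⟨v, hv⟩ := hu
  rw [← hv] at e
  exact (MulAction.bijective v).1 e

variable [CompactSpace X] [QuasiSeparatedSpace X]

/-- A quasi-coherent module of finite type is a quotient of a finitely presented one. -/
theorem exists_fp_epi (F : X.Modules) [Coh.IsQCoh F] (hF : CohB1.IsFT F) :
    ∃ (P : X.Modules) (π : P ⟶ F), Coh.IsQCoh P ∧ CohB1.IsFP P ∧ Epi π := by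
  classical
  obtain ⟨t, ht⟩ := isCompact_univ.elim_finite_subcover
    (fun W : X.affineOpens => ((W : X.Opens) : Set X)) (fun W => W.1.isOpen) fun y _ => by
      obtain ⟨_, ⟨W, hW, rfl⟩, hy, -⟩ :=
        X.isBasis_affineOpens.exists_subset_of_mem_open (Set.mem_univ y) isOpen_univ
      exact Set.mem_iUnion.mpr ⟨⟨W, hW⟩, hy⟩
  choose S hS using fun W : X.affineOpens =>
    ((QCohLib.finite_sections F hF W.2).fg_top : (⊤ : Submodule Γ(X, W.1) Γ(F, W.1)).FG)
  obtain ⟨P, π, hP, hfp, hit⟩ := exists_fp_through F (ι := Σ W : t, {s // s ∈ S W.1}) (fun k => k.1.1.1)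
    (fun k => k.1.1.2) (fun k => k.2.1)
  refine ⟨P, π, hP, hfp, ⟨fun {Z} g₁ g₂ e => hom_ext_opens g₁ g₂ t (fun W => W.1.1) (fun W => W.1.2)
    (eq_top_iff.mpr fun x _ => ?_) fun W x => ?_⟩⟩
  · obtain ⟨W, hW, hx⟩ := Set.mem_iUnion₂.mp (ht (Set.mem_univ x))
    exact Opens.mem_iSup.mpr ⟨⟨W, hW⟩, hx⟩
  have hx : x ∈ Submodule.span Γ(X, W.1.1) (S W.1 : Set Γ(F, W.1.1)) := hS W.1 ▸ Submodule.mem_top
  induction hx using Submodule.span_induction with
  | mem x hx =>
    obtain ⟨y, hy⟩ := hit ⟨W, x, hx⟩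
    dsimp only at hy
    rw [← hy]
    exact congrArg (fun φ : P ⟶ Z => φ.app W.1.1 y) e
  | zero => rw [map_zero, map_zero]
  | add a b _ _ ha hb => rw [map_add, map_add, ha, hb]
  | smul r a _ ha => rw [Scheme.Modules.Hom.app_smul, Scheme.Modules.Hom.app_smul, ha]

section quot

variable {P F : X.Modules} (π : P ⟶ F)

/-- Index: finite type submodules of the kernel. -/
def Idx : Type u := {N : SubLib.StalkSub (kernel π) // SubLib.Good N ⊤}

instance : PartialOrder (Idx π) := inferInstanceAs (PartialOrder {N : SubLib.StalkSub (kernel π) // SubLib.Good N ⊤})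

/-- The map of a submodule into `P`. -/
def rel (i : Idx π) : SubLib.subMod i.1 ⟶ P := SubLib.subι i.1 ≫ kernel.ι π

theorem rel_comp_π {i j : Idx π} (h : i ≤ j) : rel π i ≫ cokernel.π (rel π j) = 0 := by
  refine Scheme.Modules.hom_ext _ _ fun U => ConcreteCategory.hom_ext _ _ fun x => ?_
  let s : Γ(kernel π, U) := (SubLib.subι i.1).app U x
  have hs : s ∈ SubLib.sec j.1 U := fun z hz => h z (SubLib.mem_sec_of_app i.1 U x z hz)
  exact (congrArg (fun φ : SubLib.subMod j.1 ⟶ cokernel (rel π j) => φ.app U (⟨s, hs⟩ : SubLib.sec j.1 U))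
    (cokernel.condition (rel π j)) :)

/-- The diagram of quotients. -/
def diag : Idx π ⥤ X.Modules where
  obj i := cokernel (rel π i)
  map {i j} h := cokernel.desc _ (cokernel.π (rel π j)) (rel_comp_π π (leOfHom h))
  map_id i := by rw [← cancel_epi (cokernel.π (rel π i))]; simp
  map_comp {i j k} f g := by rw [← cancel_epi (cokernel.π (rel π i))]; simp

/-- The maps to `F`. -/
def cocone : diag π ⟶ (Functor.const (Idx π)).obj F where
  app i := cokernel.desc _ π (by rw [rel, Category.assoc, kernel.condition, comp_zero])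
  naturality i j h := by
    show cokernel.desc _ _ _ ≫ cokernel.desc _ _ _ = cokernel.desc _ _ _ ≫ 𝟙 F
    rw [← cancel_epi (cokernel.π (rel π i))]
    simp

theorem isDirected [Coh.IsQCoh (kernel π)] : IsDirected (Idx π) (· ≤ ·) :=
  ⟨fun a b => ⟨⟨fun z => a.1 z ⊔ b.1 z, ProjBundleLib.good_sup a.2 b.2⟩, fun z => le_sup_left, fun z => le_sup_right⟩⟩

theorem exists_mem [Coh.IsQCoh (kernel π)] {U : X.Opens} (hU : IsAffineOpen U) (s : Γ(kernel π, U)) :
    ∃ i : Idx π, s ∈ SubLib.sec i.1 U := by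
  obtain ⟨N₀, h₀, hs⟩ := SubLib.exists_good_section hU s
  obtain ⟨N, hN, hgood⟩ := SubLib.exists_good_qcqs hU.isCompact h₀
  refine ⟨⟨N, hgood⟩, fun z hz => ?_⟩
  show _ ∈ N z
  rw [hN z hz]
  exact hs z hz

theorem isFP_obj [Coh.IsQCoh P] [Coh.IsQCoh (kernel π)] (hP : CohB1.IsFP P) (i : Idx π) :
    CohB1.IsFP (cokernel (rel π i)) := by
  have hG : ∀ x : X, ∃ W : X.Opens, IsAffineOpen W ∧ x ∈ W ∧ SubLib.GenOn i.1 W := fun x => by
    obtain ⟨W, hW, hx, -, h⟩ := i.2 x trivial
    exact ⟨W, hW, hx, h⟩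
  have hq := SubLib.isQCoh_subMod i.1 hG
  haveI : Mono (rel π i) := by
    unfold rel
    exact mono_comp _ _
  let S := ShortComplex.mk (rel π i) (cokernel.π (rel π i)) (cokernel.condition _)
  have hS : S.ShortExact :=
    { exact := ShortComplex.exact_of_g_is_cokernel _ (cokernelIsCokernel (rel π i)) }
  haveI : Coh.IsQCoh (cokernel (rel π i)) := QCohLib.isQCoh_X₃ hS hq ‹Coh.IsQCoh P›
  refine isFP_of_fpOn fun x hx => ?_
  obtain ⟨_, ⟨T, hT, rfl⟩, hxT, -⟩ := X.isBasis_affineOpens.exists_subset_of_mem_open hx (⊤ : X.Opens).2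
  haveI := QCohLib.finitePresentation_sections P hP hT
  haveI := hq
  haveI := QCohLib.finite_sections (SubLib.subMod i.1) (SubLib.isFT_subMod i.1 hG) hT
  let g : Γ(P, T) →ₗ[Γ(X, T)] Γ(cokernel (rel π i), T) :=
    { toFun := (cokernel.π (rel π i)).app T, map_add' := fun a b => map_add _ a b,
      map_smul' := fun r a => Scheme.Modules.Hom.app_smul (cokernel.π (rel π i)) r a }
  let f : Γ(SubLib.subMod i.1, T) →ₗ[Γ(X, T)] Γ(P, T) :=
    { toFun := (rel π i).app T, map_add' := fun a b => map_add _ a b,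
      map_smul' := fun r a => Scheme.Modules.Hom.app_smul (rel π i) r a }
  refine ⟨T, hT, hxT, le_top, Module.finitePresentation_of_surjective g (QCohLib.app_surjective hS hq hT) ?_⟩
  have e : LinearMap.ker g = LinearMap.range f := by
    refine le_antisymm (fun a ha => QCohLib.app_exact hS T a ha) ?_
    rintro _ ⟨b, rfl⟩
    exact QCohLib.app_g_f (S := S) T b
  rw [e]
  exact Module.Finite.iff_fg.mp inferInstance

theorem isColimit [Epi π] [Coh.IsQCoh P] [Coh.IsQCoh (kernel π)] :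
    Nonempty (IsColimit (Cocone.mk F (cocone π))) := by
  obtain ⟨i₀⟩ : Nonempty (Idx π) := ⟨⟨fun _ => ⊥, ProjBundleLib.good_bot ⊤⟩⟩
  have hdir := isDirected π
  have hψ : ∀ (s : Cocone (diag π)) (i : Idx π),
      cokernel.π (rel π i) ≫ s.ι.app i = cokernel.π (rel π i₀) ≫ s.ι.app i₀ := fun s i => by
    obtain ⟨k, hik, h0k⟩ := hdir.directed i i₀
    rw [← s.w (homOfLE hik), ← s.w (homOfLE h0k)]
    simp [diag]
  have hk : ∀ s : Cocone (diag π), kernel.ι π ≫ cokernel.π (rel π i₀) ≫ s.ι.app i₀ = 0 := fun s => by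
    refine hom_ext_opens _ _ X.affineOpens (fun W => W.1) (fun W => W.2) (iSup_affineOpens_eq_top X) fun W x => ?_
    obtain ⟨i, hi⟩ := exists_mem π W.2 x
    rw [← hψ s i]
    have h := congrArg (fun φ : SubLib.subMod i.1 ⟶ cokernel (rel π i) => φ.app W.1 (⟨x, hi⟩ : SubLib.sec i.1 W.1))
      (cokernel.condition (rel π i))
    exact (congrArg ((s.ι.app i).app W.1) h).trans (map_zero ((s.ι.app i).app W.1).hom)
  refine ⟨
    { desc := fun s => (Abelian.epiIsCokernelOfKernel (KernelFork.ofι (kernel.ι π) (kernel.condition π))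
          (kernelIsKernel π)).desc (CokernelCofork.ofπ (cokernel.π (rel π i₀) ≫ s.ι.app i₀) (hk s))
      fac := fun s i => ?_
      uniq := fun s m hm => ?_ }⟩
  · show cokernel.desc _ π _ ≫ _ = s.ι.app i
    rw [← cancel_epi (cokernel.π (rel π i)), cokernel.π_desc_assoc, hψ s i]
    exact (Abelian.epiIsCokernelOfKernel (KernelFork.ofι (kernel.ι π) (kernel.condition π))
      (kernelIsKernel π)).fac (CokernelCofork.ofπ _ (hk s)) WalkingParallelPair.one
  · refine (cancel_epi π).1 ?_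
    refine Eq.trans ?_ ((Abelian.epiIsCokernelOfKernel (KernelFork.ofι (kernel.ι π) (kernel.condition π))
      (kernelIsKernel π)).fac (CokernelCofork.ofπ _ (hk s)) WalkingParallelPair.one).symm
    show π ≫ m = cokernel.π (rel π i₀) ≫ s.ι.app i₀
    rw [← hm i₀]
    show π ≫ m = cokernel.π (rel π i₀) ≫ cokernel.desc _ π _ ≫ m
    rw [cokernel.π_desc_assoc]

end quot

end Groth.Agent.FPApproxLib
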