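import Mathlib.LinearAlgebra.SymmetricAlgebra.Basic
import Mathlib.RingTheory.FinitePresentation
import Mathlib.Algebra.Module.FinitePresentation

/-! The symmetric algebra of a finitely presented module is a finitely presented algebra. -/

set_option autoImplicit false
set_option linter.style.haveILetI false

universe u

noncomputable section

namespace Groth.Agent.FPApproxLib

theorem finitePresentation_symmetricAlgebra (R M : Type u) [CommRing R] [AddCommGroup M] [Module R M]
    [hM : Module.FinitePresentation R M] : Algebra.FinitePresentation R (SymmetricAlgebra R M) := by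
  classical
  obtain ⟨n, K, e, hK⟩ := Module.FinitePresentation.exists_fin R M
  obtain ⟨t, ht⟩ := hK
  let lin : (Fin n → R) →ₗ[R] MvPolynomial (Fin n) R :=
    (Pi.basisFun R (Fin n)).constr ℕ fun i => MvPolynomial.X i
  let J : Ideal (MvPolynomial (Fin n) R) := Ideal.span (lin '' (t : Set (Fin n → R)))
  have hJ : J.FG := ⟨t.image lin, by rw [Finset.coe_image]⟩
  have hKJ : K ≤ LinearMap.ker ((Ideal.Quotient.mkₐ R J).toLinearMap ∘ₗ lin) := by
    rw [← ht, Submodule.span_le]
    intro v hv
    exact Ideal.Quotient.eq_zero_iff_mem.mpr (Ideal.subset_span ⟨v, hv, rfl⟩)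
  let b : SymmetricAlgebra R M →ₐ[R] MvPolynomial (Fin n) R ⧸ J :=
    SymmetricAlgebra.lift (K.liftQ _ hKJ ∘ₗ e.toLinearMap)
  let x : (Fin n → R) →ₗ[R] SymmetricAlgebra R M :=
    SymmetricAlgebra.ι R M ∘ₗ e.symm.toLinearMap ∘ₗ K.mkQ
  let φ : MvPolynomial (Fin n) R →ₐ[R] SymmetricAlgebra R M :=
    MvPolynomial.aeval fun i => x (Pi.basisFun R (Fin n) i)
  have hlin : φ.toLinearMap ∘ₗ lin = x := (Pi.basisFun R (Fin n)).ext fun i => by
    simp only [LinearMap.comp_apply, lin, AlgHom.toLinearMap_apply]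
    rw [Module.Basis.constr_basis]
    exact MvPolynomial.aeval_X _ _
  have hJφ : ∀ z ∈ J, φ z = 0 := fun z hz => by
    refine (Ideal.span_le.mpr ?_ : J ≤ RingHom.ker φ) hz
    rintro _ ⟨v, hv, rfl⟩
    show φ (lin v) = 0
    have h : φ (lin v) = x v := LinearMap.congr_fun hlin v
    rw [h]
    show SymmetricAlgebra.ι R M (e.symm (K.mkQ v)) = 0
    rw [Submodule.mkQ_apply, (Submodule.Quotient.mk_eq_zero K).mpr (ht ▸ Submodule.subset_span hv), map_zero, map_zero]
  let a : MvPolynomial (Fin n) R ⧸ J →ₐ[R] SymmetricAlgebra R M := Ideal.Quotient.liftₐ J φ hJφ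
  have h1 : b.comp a = AlgHom.id R _ := by
    refine Ideal.Quotient.algHom_ext R (MvPolynomial.algHom_ext fun i => ?_)
    show b (φ (MvPolynomial.X i)) = Ideal.Quotient.mk J (MvPolynomial.X i)
    rw [MvPolynomial.aeval_X]
    show b (SymmetricAlgebra.ι R M _) = _
    rw [SymmetricAlgebra.lift_ι_apply]
    simp [lin, Module.Basis.constr_basis]
  have h2 : a.comp b = AlgHom.id R _ := by
    refine SymmetricAlgebra.algHom_ext (LinearMap.ext fun m => ?_)
    obtain ⟨q, rfl⟩ := e.symm.surjective m
    obtain ⟨v, rfl⟩ := K.mkQ_surjective q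
    show a (b (SymmetricAlgebra.ι R M _)) = SymmetricAlgebra.ι R M _
    rw [SymmetricAlgebra.lift_ι_apply]
    simp only [LinearMap.comp_apply, LinearEquiv.coe_coe, LinearEquiv.apply_symm_apply, Submodule.mkQ_apply,
      Submodule.liftQ_apply, AlgHom.toLinearMap_apply]
    exact LinearMap.congr_fun hlin v
  haveI : Algebra.FinitePresentation R (MvPolynomial (Fin n) R ⧸ J) := Algebra.FinitePresentation.quotient hJ
  exact Algebra.FinitePresentation.equiv (AlgEquiv.ofAlgHom a b h2 h1)

end Groth.Agent.FPApproxLib
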