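import Groth.Agent.FPApproxLib.Main
import Groth.Agent.FPApproxLib.Sym
import Groth.Agent.FTIdealLib.Basic
import Groth.Agent.RelSpecLib.SymData
import Groth.Agent.RelSpecLib.Gen
import Groth.Agent.RelSpecLib.Basic
import Groth.Agent.SpecQCAlg.Basic
import Groth.Agent.ProjBundleLib.DegOne
import Groth.Agent.S4613

/-! A finite morphism is a limit of finite morphisms of finite presentation. -/

set_option autoImplicit false
set_option linter.style.haveILetI false
set_option backward.isDefEq.respectTransparency false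

universe u

open CategoryTheory CategoryTheory.Limits AlgebraicGeometry TopologicalSpace Opposite

noncomputable section

namespace Groth.Agent.FPApproxLib

variable {S : Scheme.{u}}

theorem lfp_π_symAlg (P : S.Modules) [Coh.IsQCoh P] (hP : CohB1.IsFP P) :
    LocallyOfFinitePresentation (RelSpecLib.symAlg P).π := by
  let A := RelSpecLib.symAlg P
  refine IsZariskiLocalAtTarget.of_iSup_eq_top (fun V : S.affineOpens => (V : S.Opens)) (iSup_affineOpens_eq_top S)
    fun V => ?_
  haveI : IsAffine (V : S.Opens).toScheme := V.2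
  haveI : IsAffine (A.π ⁻¹ᵁ (V : S.Opens)).toScheme := RelSpecLib.isAffineOpen_preimage A V.1 V.2
  haveI : IsIso (A.gammaAff V.1 V.2) := SpecQCAlg.isIso_gammaAff A V.1 V.2
  rw [HasRingHomProperty.iff_of_isAffine (P := @LocallyOfFinitePresentation), morphismRestrict_appTop]
  let U : S.AffineZariskiSite := ⟨V.1, V.2⟩
  haveI := QCohLib.finitePresentation_sections P hP V.2
  have key : (A.str.app (op V.1)).hom.FinitePresentation := by
    have h := (RelSpecLib.symData P).str_aff U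
    haveI : IsIso ((RelSpecLib.symData P).aff U) := (RelSpecLib.symData P).isIso_aff U
    rw [show A.str.app (op V.1) = (RelSpecLib.symData P).α.app (op U) ≫ inv ((RelSpecLib.symData P).aff U) from
      (IsIso.eq_comp_inv _).mpr h]
    refine RingHom.FinitePresentation.comp (RingHom.FinitePresentation.of_bijective
      (ConcreteCategory.bijective_of_isIso (inv ((RelSpecLib.symData P).aff U)))) ?_
    show (algebraMap Γ(S, V.1) (SymmetricAlgebra Γ(S, V.1) Γ(P, V.1))).FinitePresentation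
    rw [RingHom.finitePresentation_algebraMap]
    exact finitePresentation_symmetricAlgebra Γ(S, V.1) Γ(P, V.1)
  have hcomp : (A.π.app V.1 ≫ A.gammaAff V.1 V.2) = A.str.app (op V.1) := A.π_app_gammaAff V.1 V.2
  have h2 : (A.π.app V.1).hom.FinitePresentation := by
    rw [show A.π.app V.1 = A.str.app (op V.1) ≫ inv (A.gammaAff V.1 V.2) by rw [← hcomp]; simp]
    exact RingHom.FinitePresentation.comp (RingHom.FinitePresentation.of_bijective
      (ConcreteCategory.bijective_of_isIso (inv (A.gammaAff V.1 V.2)))) key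
  have hV' : ∀ W : S.Opens, W = V.1 → (A.π.app W).hom.FinitePresentation := fun W hW => by subst hW; exact h2
  exact RingHom.finitePresentation_respectsIso.1 _
    (A.spec.presheaf.mapIso (eqToIso (image_morphismRestrict_preimage A.π V.1 ⊤)).op).commRingCatIsoToRingEquiv
    (hV' _ (Scheme.Opens.ι_image_top _))

/-- A finite morphism embeds in a scheme of finite presentation so that small enough finitely presented
closed subschemes around it are finite. -/
theorem exists_embedding [CompactSpace S] [QuasiSeparatedSpace S] {X : Scheme.{u}} (f : X ⟶ S) [IsFinite f] :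
    ∃ (V : Scheme.{u}) (g : V ⟶ S) (j : X ⟶ V) (J₀ : V.IdealSheafData), CompactSpace V ∧ QuasiSeparatedSpace V ∧
      IsClosedImmersion j ∧ j ≫ g = f ∧ J₀ ≤ j.ker ∧ (∀ U, (J₀.ideal U).FG) ∧
      ∀ J : V.IdealSheafData, J₀ ≤ J → (∀ U, (J.ideal U).FG) →
        IsFinite (J.subschemeι ≫ g) ∧ LocallyOfFinitePresentation (J.subschemeι ≫ g) := by
  classical
  obtain ⟨t, ht⟩ := isCompact_univ.elim_finite_subcover
    (fun V : S.affineOpens => ((V : S.Opens) : Set S)) (fun V => V.1.isOpen) fun y _ => by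
      obtain ⟨_, ⟨V, hV, rfl⟩, hy, -⟩ :=
        S.isBasis_affineOpens.exists_subset_of_mem_open (Set.mem_univ y) isOpen_univ
      exact Set.mem_iUnion.mpr ⟨⟨V, hV⟩, hy⟩
  have hgen : ∀ V : S.affineOpens, ∃ G : Finset Γ(X, f ⁻¹ᵁ V.1), ∀ R : Subring Γ(X, f ⁻¹ᵁ V.1),
      (∀ r, (f.app V.1).hom r ∈ R) → (∀ b ∈ G, b ∈ R) → R = ⊤ := fun V => by
    have h := HasRingHomProperty.appLE (P := @LocallyOfFiniteType) f inferInstance V
      ⟨f ⁻¹ᵁ V.1, V.2.preimage f⟩ le_rfl
    rw [Scheme.Hom.appLE_eq_app] at h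
    letI := (f.app V.1).hom.toAlgebra
    haveI : Algebra.FiniteType Γ(S, V.1) Γ(X, f ⁻¹ᵁ V.1) := h
    obtain ⟨c, hc⟩ := (Algebra.FiniteType.out : (⊤ : Subalgebra Γ(S, V.1) Γ(X, f ⁻¹ᵁ V.1)).FG)
    refine ⟨c, fun R h1 h2 => eq_top_iff.mpr fun z _ => ?_⟩
    exact (Algebra.adjoin_le (S := { R with algebraMap_mem' := h1 }) fun w hw => h2 w hw)
      (hc ▸ Algebra.mem_top : z ∈ Algebra.adjoin Γ(S, V.1) (c : Set Γ(X, f ⁻¹ᵁ V.1)))
  choose G hG using hgen
  let F := RelSpec.QCAlg.directImage f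
  haveI : Coh.IsQCoh F.toModule := ProjBundleLib.isQCoh_toModule F
  obtain ⟨E, i, hE, hfp, hmem⟩ := exists_fp_through F.toModule
    (ι := Σ V : t, {b // b ∈ G V.1}) (fun k => k.1.1.1) (fun k => k.1.1.2) (fun k => k.2.1)
  haveI := hE
  have hA := RelSpecLib.isSymAlg_symAlg E
  let A := RelSpecLib.symAlg E
  obtain ⟨ψ, hψ, -⟩ := hA F i
  let j := RelSpecLib.lift A f ψ.hom
  have hj : j ≫ A.π = f := RelSpecLib.lift_π A f ψ.hom ψ.comm
  have hpre : ∀ V : S.Opens, j ⁻¹ᵁ (A.π ⁻¹ᵁ V) = f ⁻¹ᵁ V := fun V => by rw [← Scheme.Hom.comp_preimage, hj]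
  have hjci : IsClosedImmersion j := by
    refine IsZariskiLocalAtTarget.of_iSup_eq_top (fun V : t => A.π ⁻¹ᵁ V.1.1) ?_ fun V => ?_
    · refine eq_top_iff.mpr fun z _ => ?_
      obtain ⟨V, hV, hz⟩ := Set.mem_iUnion₂.mp (ht (Set.mem_univ (A.π z)))
      exact Opens.mem_iSup.mpr ⟨⟨V, hV⟩, hz⟩
    haveI : IsAffine (A.π ⁻¹ᵁ V.1.1).toScheme := RelSpecLib.isAffineOpen_preimage A V.1.1 V.1.2
    haveI : IsAffine (j ⁻¹ᵁ (A.π ⁻¹ᵁ V.1.1)).toScheme := by rw [hpre]; exact V.1.2.preimage f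
    refine IsClosedImmersion.of_surjective_of_isAffine _ ?_
    haveI := SpecQCAlg.isIso_gammaAff A V.1.1 V.1.2
    have hψsur : Function.Surjective (ψ.hom.app (op V.1.1)).hom := by
      rw [← RingHom.range_eq_top]
      refine hG V.1 _ (fun r => ?_) fun b hb => ?_
      · exact ⟨(A.str.app (op V.1.1)).hom r,
          congrArg (fun p : S.presheaf ⟶ F.presheaf => (p.app (op V.1.1)).hom r) ψ.comm⟩
      · obtain ⟨g, hg⟩ := hmem ⟨V, b, hb⟩
        refine ⟨RelSpecLib.jsec A (RelSpecLib.symJ E) g, Eq.trans ?_ hg⟩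
        exact congrArg (fun q : E ⟶ F.toModule => q.app V.1.1 g) hψ
    have hsur : Function.Surjective (j.appLE (A.π ⁻¹ᵁ V.1.1) (f ⁻¹ᵁ V.1.1) (hpre V.1.1).ge).hom := by
      have h := RelSpecLib.gammaAff_algMap A f j hj V.1.1 V.1.2
      rw [show RelSpecLib.algMap A f j hj = ψ.hom from RelSpecLib.algMap_lift A f ψ.hom ψ.comm] at h
      rw [← h]
      exact hψsur.comp (ConcreteCategory.bijective_of_isIso (A.gammaAff V.1.1 V.1.2)).2
    have hgenW : ∀ (W : A.spec.Opens) (e : f ⁻¹ᵁ V.1.1 = j ⁻¹ᵁ W), W = A.π ⁻¹ᵁ V.1.1 →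
        Function.Surjective (j.app W) := fun W e hW => by
      subst hW
      intro z
      obtain ⟨w, hw⟩ := hsur ((X.presheaf.map (eqToHom e).op).hom z)
      refine ⟨w, (ConcreteCategory.bijective_of_isIso (X.presheaf.map (eqToHom e).op)).1 (hw ▸ ?_)⟩
      rw [Scheme.Hom.appLE, CommRingCat.comp_apply]
      rfl
    rw [morphismRestrict_appTop]
    refine (ConcreteCategory.bijective_of_isIso (X.presheaf.map _)).2.comp ?_
    refine hgenW _ ?_ (Scheme.Opens.ι_image_top _)
    rw [Scheme.Opens.ι_image_top, hpre]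
  haveI := hjci
  haveI : IsAffineHom A.π := ⟨fun U hU => RelSpecLib.isAffineOpen_preimage A U hU⟩
  haveI : CompactSpace A.spec := QuasiCompact.compactSpace_of_compactSpace A.π
  haveI : QuasiSeparatedSpace A.spec := quasiSeparatedSpace_of_quasiSeparated A.π
  -- integral equations of the generators
  choose gens hgens using fun V : S.affineOpens =>
    ((QCohLib.finitePresentation_sections E hfp V.2).out).imp fun _ h => h.1
  have hsec : ∀ (V : S.affineOpens) (m : Γ(E, V.1)), ∃ (J : A.spec.IdealSheafData) (σ : Γ(A.spec, A.π ⁻¹ᵁ V.1))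
      (q : Polynomial Γ(S, V.1)),
      J ≤ j.ker ∧ (∀ U, (J.ideal U).FG) ∧ q.Monic ∧
      q.eval₂ (A.π.app V.1).hom σ ∈ J.ideal ⟨A.π ⁻¹ᵁ V.1, RelSpecLib.isAffineOpen_preimage A V.1 V.2⟩ ∧
      (A.gammaAff V.1 V.2).hom σ = RelSpecLib.jsec A (RelSpecLib.symJ E) m := by
    intro V m
    haveI := SpecQCAlg.isIso_gammaAff A V.1 V.2
    obtain ⟨σ, hσ⟩ := (ConcreteCategory.bijective_of_isIso (A.gammaAff V.1 V.2)).2
      (RelSpecLib.jsec A (RelSpecLib.symJ E) m)
    obtain ⟨q, hq, hev⟩ := (IsFinite.finite_app (f := f) V.1 V.2).to_isIntegral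
      ((j.appLE (A.π ⁻¹ᵁ V.1) (f ⁻¹ᵁ V.1) (hpre V.1).ge).hom σ)
    have hmem : q.eval₂ (A.π.app V.1).hom σ ∈
        j.ker.ideal ⟨A.π ⁻¹ᵁ V.1, RelSpecLib.isAffineOpen_preimage A V.1 V.2⟩ := by
      rw [Scheme.Hom.ker_apply, RingHom.mem_ker]
      have hfac : (j.appLE (A.π ⁻¹ᵁ V.1) (f ⁻¹ᵁ V.1) (hpre V.1).ge).hom.comp (A.π.app V.1).hom = (f.app V.1).hom := by
        rw [← CommRingCat.hom_comp, ← Scheme.Hom.appLE_eq_app, Scheme.Hom.appLE_comp_appLE]
        have : ∀ (g : X ⟶ S) (e : f ⁻¹ᵁ V.1 ≤ g ⁻¹ᵁ V.1), g = f → g.appLE V.1 (f ⁻¹ᵁ V.1) e = f.app V.1 := by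
          intro g e hg
          subst hg
          exact Scheme.Hom.appLE_eq_app _
        rw [this _ _ hj]
      have h1 := Polynomial.hom_eval₂ q (A.π.app V.1).hom (j.appLE (A.π ⁻¹ᵁ V.1) (f ⁻¹ᵁ V.1) (hpre V.1).ge).hom σ
      rw [hfac, hev, Scheme.Hom.appLE, CommRingCat.hom_comp, RingHom.comp_apply] at h1
      haveI : IsIso (X.presheaf.map (homOfLE (hpre V.1).ge).op) := by
        rw [Subsingleton.elim (homOfLE (hpre V.1).ge) (eqToHom (hpre V.1).symm)]
        infer_instance
      exact (ConcreteCategory.bijective_of_isIso (X.presheaf.map (homOfLE (hpre V.1).ge).op)).1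
        (h1.trans (map_zero _).symm)
    obtain ⟨J, hJ, hJfg, hJm⟩ := FTIdealLib.exists_ft_le_mem _ _ hmem
    exact ⟨J, σ, q, hJ, hJfg, hq, hJm, hσ⟩
  choose Jm σm qm hJle hJfg hqm hJmem hσ using hsec
  let J₀ : A.spec.IdealSheafData := t.sup fun V => (gens V).sup fun m => Jm V m
  have hsupfg : ∀ {α : Type u} (s : Finset α) (K : α → A.spec.IdealSheafData),
      (∀ a ∈ s, ∀ U, ((K a).ideal U).FG) → ∀ U, ((s.sup K).ideal U).FG := by
    intro α s K
    induction s using Finset.induction with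
    | empty => intro _ U; rw [Finset.sup_empty, Scheme.IdealSheafData.ideal_bot]; exact Submodule.fg_bot
    | insert a s _ ih =>
      intro h U
      rw [Finset.sup_insert, Scheme.IdealSheafData.ideal_sup, Pi.sup_apply]
      exact Submodule.FG.sup (h a (Finset.mem_insert_self a s) U)
        (ih (fun b hb => h b (Finset.mem_insert_of_mem hb)) U)
  refine ⟨A.spec, A.π, j, J₀, inferInstance, inferInstance, hjci, hj,
    Finset.sup_le fun V _ => Finset.sup_le fun m _ => hJle V m,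
    hsupfg t _ fun V _ => hsupfg (gens V) _ fun m _ => hJfg V m, fun J hJ hfg => ?_⟩
  haveI : LocallyOfFinitePresentation J.subschemeι :=
    (S4613.result J.subschemeι).mpr fun U => by rw [Scheme.IdealSheafData.ker_subschemeι_app]; exact hfg U
  haveI := lfp_π_symAlg E hfp
  have hlfp : LocallyOfFinitePresentation (J.subschemeι ≫ A.π) := inferInstance
  refine ⟨(IsFinite.iff_isIntegralHom_and_locallyOfFiniteType _).mpr ⟨?_, inferInstance⟩, hlfp⟩
  refine IsZariskiLocalAtTarget.of_iSup_eq_top (fun V : t => (V.1 : S.Opens)) ?_ fun V => ?_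
  · refine eq_top_iff.mpr fun z _ => ?_
    obtain ⟨V, hV, hz⟩ := Set.mem_iUnion₂.mp (ht (Set.mem_univ z))
    exact Opens.mem_iSup.mpr ⟨⟨V, hV⟩, hz⟩
  haveI : IsAffine (V.1 : S.Opens).toScheme := V.1.2
  rw [HasAffineProperty.iff_of_isAffine (P := @IsIntegralHom)]
  refine ⟨V.1.2.preimage (J.subschemeι ≫ A.π), ?_⟩
  rw [morphismRestrict_app, CommRingCat.hom_comp]
  refine RingHom.IsIntegral.trans _ _ ?_ (RingHom.isIntegral_of_surjective _
    (ConcreteCategory.bijective_of_isIso _).2)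
  have hint : ((J.subschemeι ≫ A.π).app V.1.1).hom.IsIntegral := by
    rw [Scheme.Hom.comp_app, CommRingCat.hom_comp]
    let θ := (J.subschemeι.app (A.π ⁻¹ᵁ V.1.1)).hom
    let φ := (A.π.app V.1.1).hom
    show (θ.comp φ).IsIntegral
    have hsurj : Function.Surjective θ :=
      J.subschemeι_app_surjective ⟨_, RelSpecLib.isAffineOpen_preimage A V.1.1 V.1.2⟩
    have hm : ∀ m ∈ gens V.1, (θ.comp φ).IsIntegralElem (θ (σm V.1 m)) := fun m hm => by
      refine ⟨qm V.1 m, hqm V.1 m, ?_⟩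
      rw [← Polynomial.hom_eval₂]
      have h := hJ.trans' (le_trans (Finset.le_sup (f := fun m => Jm V.1 m) hm)
        (Finset.le_sup (f := fun V => (gens V).sup fun m => Jm V m) V.2)) _ (hJmem V.1 m)
      rw [← J.ker_subschemeι_app] at h
      exact h
    letI := (θ.comp φ).toAlgebra
    have hB : ∀ b, IsIntegral Γ(S, V.1.1) (θ b) := by
      haveI := SpecQCAlg.isIso_gammaAff A V.1.1 V.1.2
      let e : Γ(A.spec, A.π ⁻¹ᵁ V.1.1) ≃+* A.presheaf.obj (op V.1.1) :=
        (asIso (A.gammaAff V.1.1 V.1.2)).commRingCatIsoToRingEquiv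
      intro b
      let R : Subring (A.presheaf.obj (op V.1.1)) :=
        ((integralClosure Γ(S, V.1.1) _).toSubring.comap θ).map e.toRingHom
      have hR : RelSpecLib.gen A (RelSpecLib.symJ E) V.1.1 ≤ R := by
        refine Subring.closure_le.mpr ?_
        have hstr : ∀ r, (A.str.app (op V.1.1)).hom r ∈ R := fun r =>
          ⟨φ r, isIntegral_algebraMap (R := Γ(S, V.1.1)) (x := r),
            (congrArg (fun p : Γ(S, V.1.1) ⟶ A.presheaf.obj (op V.1.1) => p.hom r)
              (A.π_app_gammaAff V.1.1 V.1.2) :)⟩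
        rintro _ (⟨r, rfl⟩ | ⟨m, rfl⟩)
        · exact hstr r
        · have hm' : m ∈ Submodule.span Γ(S, V.1.1) (gens V.1 : Set Γ(E, V.1.1)) :=
            (hgens V.1).symm ▸ Submodule.mem_top
          induction hm' using Submodule.span_induction with
          | mem m hmg => exact ⟨σm V.1 m, hm m hmg, hσ V.1 m⟩
          | zero =>
            rw [show RelSpecLib.jsec A (RelSpecLib.symJ E) (0 : Γ(E, V.1.1)) = 0 from
              map_zero ((RelSpecLib.symJ E).app V.1.1).hom]
            exact R.zero_mem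
          | add a b _ _ ha hb =>
            rw [show RelSpecLib.jsec A (RelSpecLib.symJ E) (a + b) = RelSpecLib.jsec A (RelSpecLib.symJ E) a +
              RelSpecLib.jsec A (RelSpecLib.symJ E) b from map_add ((RelSpecLib.symJ E).app V.1.1).hom a b]
            exact R.add_mem ha hb
          | smul r a _ ha =>
            rw [RelSpecLib.jsec_smul]
            exact R.mul_mem (hstr r) ha
      rw [RelSpecLib.gen_eq_top A (RelSpecLib.symJ E) hE hA V.1.2] at hR
      obtain ⟨w, hw, hwb⟩ := hR (Subring.mem_top (e b))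
      exact e.injective hwb ▸ hw
    intro z
    obtain ⟨b, rfl⟩ := hsurj z
    exact hB b
  have hV' : ∀ W : S.Opens, W = V.1.1 → ((J.subschemeι ≫ A.π).app W).hom.IsIntegral := fun W hW => by
    subst hW; exact hint
  exact hV' _ (Scheme.Opens.ι_image_top _)

end Groth.Agent.FPApproxLib
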