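import Groth.Agent.FPApproxLib.Colim
import Groth.Agent.DCohLib.FlatPerf
import Groth.Agent.DCohLib.StalkKFlat
import Groth.Agent.DCohLib.QCohAbelian

/-! Every quasi-coherent module on a quasi-compact quasi-separated scheme is a filtered colimit of finitely
presented ones. -/

set_option autoImplicit false
set_option linter.style.haveILetI false
set_option backward.isDefEq.respectTransparency false

universe u

open CategoryTheory CategoryTheory.Limits AlgebraicGeometry TopologicalSpace Opposite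

noncomputable section

namespace Groth.Agent.FPApproxLib

variable {X : Scheme.{u}} [CompactSpace X] [QuasiSeparatedSpace X] (F : X.Modules) [Coh.IsQCoh F]

/-- A finitely presented module over `F`. -/
structure FPOver where
  obj : Over F
  hq : Coh.IsQCoh obj.left
  hfp : CohB1.IsFP obj.left

/-- A finitely presented module hitting a section. -/
def FPOver.hit (W : X.affineOpens) (s : Γ(F, W.1)) : FPOver F :=
  ⟨Over.mk (exists_fp_hit F W.2 s).choose_spec.choose, (exists_fp_hit F W.2 s).choose_spec.choose_spec.1,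
    (exists_fp_hit F W.2 s).choose_spec.choose_spec.2.1⟩

theorem FPOver.exists_hit (W : X.affineOpens) (s : Γ(F, W.1)) :
    ∃ t, (FPOver.hit F W s).obj.hom.app W.1 t = s :=
  (exists_fp_hit F W.2 s).choose_spec.choose_spec.2.2

variable {F}

/-- The sum of two finitely presented modules over `F`. -/
def FPOver.add (a b : FPOver F) : FPOver F :=
  ⟨Over.mk (biprod.desc a.obj.hom b.obj.hom), DCohLib.isQCoh_biprod' a.hq b.hq,
    (by haveI := a.hq; haveI := b.hq; exact isFP_biprod a.hfp b.hfp)⟩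

theorem exists_kill (a : FPOver F) (W : X.affineOpens) (t : Γ(a.obj.left, W.1))
    (ht : a.obj.hom.app W.1 t = 0) :
    ∃ (b : FPOver F) (q : a.obj ⟶ b.obj), q.left.app W.1 t = 0 := by
  haveI := a.hq
  haveI : Coh.IsQCoh (kernel a.obj.hom) := (QCohLib.isQCoh_image a.obj.hom ‹_› ‹Coh.IsQCoh F›).1
  obtain ⟨s, hs⟩ := QCohLib.kernel_app_exact a.obj.hom W.1 t ht
  obtain ⟨Q, χ, hQq, hQfp, t', ht'⟩ := exists_fp_hit (kernel a.obj.hom) W.2 s
  let r : Q ⟶ a.obj.left := χ ≫ kernel.ι a.obj.hom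
  have hr : r ≫ a.obj.hom = 0 := by
    show (χ ≫ kernel.ι a.obj.hom) ≫ a.obj.hom = 0
    rw [Category.assoc, kernel.condition, comp_zero]
  haveI := hQfp
  refine ⟨⟨Over.mk (cokernel.desc r a.obj.hom hr), (QCohLib.isQCoh_image r hQq ‹_›).2,
    DCohLib.isFP_cokernel r hQq ‹_› (inferInstance : SheafOfModules.IsFiniteType (R := X.ringCatSheaf) Q) a.hfp⟩,
    Over.homMk (cokernel.π r) (cokernel.π_desc r a.obj.hom hr), ?_⟩
  rw [← hs, ← ht']
  exact congrArg (fun φ : Q ⟶ cokernel r => φ.app W.1 t') (cokernel.condition r)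

/-- The module killing a section. -/
def FPOver.kill (a : FPOver F) (W : X.affineOpens) (t : {t : Γ(a.obj.left, W.1) // a.obj.hom.app W.1 t = 0}) :
    FPOver F :=
  (exists_kill a W t.1 t.2).choose

variable (F)

/-- Finitely many steps of summing and killing. -/
def stage : ℕ → Σ I : Type u, (I → FPOver F)
  | 0 => ⟨Σ W : X.affineOpens, Γ(F, W.1), fun k => FPOver.hit F k.1 k.2⟩
  | n + 1 =>
    let S := stage n
    ⟨S.1 ⊕ (S.1 × S.1) ⊕ (Σ (i : S.1) (W : X.affineOpens),
        {t : Γ((S.2 i).obj.left, W.1) // (S.2 i).obj.hom.app W.1 t = 0}),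
      Sum.elim S.2 (Sum.elim (fun k => (S.2 k.1).add (S.2 k.2)) fun k => (S.2 k.1).kill k.2.1 k.2.2)⟩

/-- All stages. -/
def AllIdx : Type u := Σ n : ℕ, (stage F n).1

/-- The module of an index. -/
def allObj (k : AllIdx F) : FPOver F := (stage F k.1).2 k.2

theorem exists_raise (k : AllIdx F) (n : ℕ) (h : k.1 ≤ n) :
    ∃ i : (stage F n).1, (stage F n).2 i = allObj F k := by
  induction h with
  | refl => exact ⟨k.2, rfl⟩
  | step _ ih =>
    obtain ⟨i, hi⟩ := ih
    exact ⟨Sum.inl i, hi⟩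

theorem exists_add (a b : AllIdx F) : ∃ c : AllIdx F, allObj F c = (allObj F a).add (allObj F b) := by
  obtain ⟨i, hi⟩ := exists_raise F a _ (le_max_left a.1 b.1)
  obtain ⟨j, hj⟩ := exists_raise F b _ (le_max_right a.1 b.1)
  refine ⟨⟨max a.1 b.1 + 1, Sum.inr (Sum.inl (i, j))⟩, ?_⟩
  rw [← hi, ← hj]
  rfl

theorem exists_kill_idx (a : AllIdx F) (W : X.affineOpens) (t : Γ((allObj F a).obj.left, W.1))
    (ht : (allObj F a).obj.hom.app W.1 t = 0) :
    ∃ (b : AllIdx F) (q : (allObj F a).obj ⟶ (allObj F b).obj), q.left.app W.1 t = 0 :=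
  ⟨⟨a.1 + 1, Sum.inr (Sum.inr ⟨a.2, W, t, ht⟩)⟩, (exists_kill (allObj F a) W t ht).choose_spec⟩

/-- The index category. -/
abbrev Ix : Type u := InducedCategory (Over F) fun k : AllIdx F => (allObj F k).obj

/-- The diagram. -/
def allDiag : Ix F ⥤ X.Modules := inducedFunctor _ ⋙ Over.forget F

/-- The maps to `F`. -/
def allCocone : allDiag F ⟶ (Functor.const (Ix F)).obj F where
  app k := (allObj F k).obj.hom
  naturality _ _ f := (Over.w ((inducedFunctor _).map f)).trans (Category.comp_id _).symm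

theorem exists_kill_finset (a : AllIdx F) (T : Finset (Σ W : X.affineOpens, Γ((allObj F a).obj.left, W.1)))
    (hT : ∀ p ∈ T, (allObj F a).obj.hom.app p.1.1 p.2 = 0) :
    ∃ (b : AllIdx F) (q : (allObj F a).obj ⟶ (allObj F b).obj), ∀ p ∈ T, q.left.app p.1.1 p.2 = 0 := by
  classical
  induction T using Finset.induction with
  | empty => exact ⟨a, 𝟙 _, fun p hp => absurd hp (Finset.notMem_empty p)⟩
  | insert p T _ ih =>
    obtain ⟨b, q, hq⟩ := ih fun p' hp' => hT p' (Finset.mem_insert_of_mem hp')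
    have h0 : (allObj F b).obj.hom.app p.1.1 (q.left.app p.1.1 p.2) = 0 :=
      (congrArg (fun φ : (allObj F a).obj.left ⟶ F => φ.app p.1.1 p.2) (Over.w q)).trans
        (hT p (Finset.mem_insert_self p T))
    obtain ⟨c, r, hr⟩ := exists_kill_idx F b p.1 _ h0
    refine ⟨c, q ≫ r, fun p' hp' => ?_⟩
    rcases Finset.mem_insert.mp hp' with rfl | hp'
    · exact hr
    · exact (congrArg (r.left.app p'.1.1) (hq p' hp')).trans (map_zero _)

theorem exists_equalize (a b : AllIdx F) (f g : (allObj F a).obj ⟶ (allObj F b).obj) :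
    ∃ (c : AllIdx F) (q : (allObj F b).obj ⟶ (allObj F c).obj), f ≫ q = g ≫ q := by
  classical
  haveI := (allObj F a).hq
  let P := (allObj F a).obj.left
  obtain ⟨t, ht⟩ := isCompact_univ.elim_finite_subcover
    (fun W : X.affineOpens => ((W : X.Opens) : Set X)) (fun W => W.1.isOpen) fun y _ => by
      obtain ⟨_, ⟨W, hW, rfl⟩, hy, -⟩ :=
        X.isBasis_affineOpens.exists_subset_of_mem_open (Set.mem_univ y) isOpen_univ
      exact Set.mem_iUnion.mpr ⟨⟨W, hW⟩, hy⟩
  haveI := (allObj F a).hfp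
  choose S hS using fun W : X.affineOpens =>
    ((QCohLib.finite_sections P (inferInstance : SheafOfModules.IsFiniteType (R := X.ringCatSheaf) P)
      W.2).fg_top : (⊤ : Submodule Γ(X, W.1) Γ(P, W.1)).FG)
  let d : (W : X.affineOpens) → Γ(P, W.1) → Γ((allObj F b).obj.left, W.1) :=
    fun W x => f.left.app W.1 x - g.left.app W.1 x
  obtain ⟨c, q, hq⟩ := exists_kill_finset F b
    (t.biUnion fun W => (S W).image fun x => ⟨W, d W x⟩) fun p hp => by
      simp only [Finset.mem_biUnion, Finset.mem_image] at hp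
      obtain ⟨W, -, x, -, rfl⟩ := hp
      show (allObj F b).obj.hom.app W.1 (f.left.app W.1 x - g.left.app W.1 x) = 0
      rw [map_sub, sub_eq_zero]
      exact congrArg (fun φ : P ⟶ F => φ.app W.1 x) ((Over.w f).trans (Over.w g).symm)
  refine ⟨c, q, Over.OverMorphism.ext (hom_ext_opens (f.left ≫ q.left) (g.left ≫ q.left) t
    (fun W => W.1.1) (fun W => W.1.2) (eq_top_iff.mpr fun x _ => ?_) fun W x => ?_)⟩
  · obtain ⟨W, hW, hx⟩ := Set.mem_iUnion₂.mp (ht (Set.mem_univ x))
    exact Opens.mem_iSup.mpr ⟨⟨W, hW⟩, hx⟩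
  have hx : x ∈ Submodule.span Γ(X, W.1.1) (S W.1 : Set Γ(P, W.1.1)) := hS W.1 ▸ Submodule.mem_top
  induction hx using Submodule.span_induction with
  | mem x hx =>
    have h := hq ⟨W.1, d W.1 x⟩ (Finset.mem_biUnion.mpr ⟨W.1, W.2, Finset.mem_image_of_mem _ hx⟩)
    exact sub_eq_zero.1 ((map_sub (q.left.app W.1.1).hom _ _).symm.trans h)
  | zero => rw [map_zero, map_zero]
  | add a b _ _ ha hb => rw [map_add, map_add, ha, hb]
  | smul r a _ ha => rw [Scheme.Modules.Hom.app_smul, Scheme.Modules.Hom.app_smul, ha]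

theorem isFiltered_ix : IsFiltered (Ix F) := by
  haveI : IsFilteredOrEmpty (Ix F) :=
    { cocone_objs := fun a b => by
        obtain ⟨c, hc⟩ := exists_add F a b
        exact ⟨(c : Ix F), InducedCategory.homMk (Over.homMk biprod.inl (biprod.inl_desc _ _) ≫ eqToHom (congrArg FPOver.obj hc.symm)),
          InducedCategory.homMk (Over.homMk biprod.inr (biprod.inr_desc _ _) ≫ eqToHom (congrArg FPOver.obj hc.symm)), trivial⟩
      cocone_maps := fun a b f g => by
        obtain ⟨c, q, hq⟩ := exists_equalize F a b f.hom g.hom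
        exact ⟨(c : Ix F), InducedCategory.homMk q, InducedCategory.hom_ext hq⟩ }
  haveI : Nonempty (Ix F) := ⟨⟨0, ⟨⊥, isAffineOpen_bot X⟩, 0⟩⟩
  exact {}

theorem isColimit_all : Nonempty (IsColimit (Cocone.mk F (allCocone F))) := by
  haveI := isFiltered_ix F
  let c := colimit.cocone (allDiag F)
  let hc : IsColimit c := colimit.isColimit _
  let h : c.pt ⟶ F := hc.desc (Cocone.mk F (allCocone F))
  have hfac : ∀ k, c.ι.app k ≫ h = (allObj F k).obj.hom := fun k => hc.fac (Cocone.mk F (allCocone F)) k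
  have hepi : Epi h := (PullbackMod.epi_iff_stalk h).2 fun x z => by
    obtain ⟨U, hxU, s, rfl⟩ := TopCat.Presheaf.exists_germ_eq F.presheaf z
    obtain ⟨_, ⟨W, hW, rfl⟩, hxW, hWU⟩ := X.isBasis_affineOpens.exists_subset_of_mem_open hxU U.2
    let s' := F.presheaf.map (homOfLE hWU).op s
    let k : Ix F := ⟨0, ⟨W, hW⟩, s'⟩
    obtain ⟨t, ht⟩ := FPOver.exists_hit F ⟨W, hW⟩ s'
    refine ⟨c.pt.presheaf.germ W x hxW ((c.ι.app k).app W t), ?_⟩
    rw [PullbackMod.stalkLin_germ, ← TopCat.Presheaf.germ_res_apply F.presheaf (homOfLE hWU) x hxW s]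
    refine congrArg (F.presheaf.germ W x hxW) ?_
    exact (congrArg (fun φ : (allObj F k).obj.left ⟶ F => φ.app W t) (hfac k)).trans ht
  have hmono : Mono h := (PullbackMod.mono_iff_stalk h).2 fun x => (injective_iff_map_eq_zero _).2 fun z hz => by
    haveI : PreservesColimitsOfSize.{u, u} (DCohLib.stkF x) := (DCohLib.stalkSkyAdj x).leftAdjoint_preservesColimits
    obtain ⟨k, w, rfl⟩ := Concrete.isColimit_exists_rep _ (isColimitOfPreserves (DCohLib.stkF x) hc) z
    let P := (allObj F k).obj.left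
    obtain ⟨U, hxU, t, ht⟩ := TopCat.Presheaf.exists_germ_eq P.presheaf (w : P.presheaf.stalk x)
    subst ht
    have e : F.presheaf.germ U x hxU ((allObj F k).obj.hom.app U t) = 0 := by
      refine Eq.trans ?_ hz
      show _ = PullbackMod.stalkLin h x (PullbackMod.stalkLin (c.ι.app k) x (P.presheaf.germ U x hxU t))
      erw [PullbackMod.stalkLin_germ, PullbackMod.stalkLin_germ]
      rw [← hfac k]
      rfl
    obtain ⟨V, hxV, iV, iV', heV⟩ := TopCat.Presheaf.germ_eq F.presheaf x hxU hxU _ 0 (e.trans (map_zero _).symm)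
    obtain ⟨_, ⟨W, hW, rfl⟩, hxW, hWV⟩ := X.isBasis_affineOpens.exists_subset_of_mem_open hxV V.2
    have hWU : W ≤ U := le_trans hWV (leOfHom iV)
    have h0 : (allObj F k).obj.hom.app W (P.presheaf.map (homOfLE hWU).op t) = 0 := by
      rw [QCohLib.app_res]
      have := congrArg (F.presheaf.map (homOfLE hWV).op) heV
      rw [map_zero, map_zero, ← ConcreteCategory.comp_apply, ← Functor.map_comp] at this
      exact this
    obtain ⟨b, q, hq⟩ := exists_kill_idx F k ⟨W, hW⟩ _ h0
    let q' : k ⟶ (b : Ix F) := InducedCategory.homMk q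
    show PullbackMod.stalkLin (c.ι.app k) x (P.presheaf.germ U x hxU t) = 0
    rw [← c.w q', ← TopCat.Presheaf.germ_res_apply P.presheaf (homOfLE hWU) x hxW t]
    erw [PullbackMod.stalkLin_germ]
    refine Eq.trans (congrArg (c.pt.presheaf.germ W x hxW) ?_) (map_zero _)
    exact (congrArg ((c.ι.app b).app W) hq).trans (map_zero _)
  haveI := hepi
  haveI := hmono
  haveI : IsIso h := isIso_of_mono_of_epi h
  exact ⟨hc.ofIsoColimit (Cocone.ext (asIso h) hfac)⟩

end Groth.Agent.FPApproxLib
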