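import Mathlib.Algebra.Module.FinitePresentation
import Mathlib.RingTheory.Localization.BaseChange
import Mathlib.RingTheory.Localization.Away.Basic

/-! Finitely presented models of a module with finitely presented localizations. -/

set_option autoImplicit false
set_option linter.style.haveILetI false

universe u

noncomputable section

namespace Groth.Agent.FPApproxLib

variable {A : Type u} [CommRing A] {M : Type u} [AddCommGroup M] [Module A M]

/-- A module with finitely presented localizations receives a finitely presented module which becomes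
isomorphic after each localization and hits given elements. -/
theorem exists_fp_model {ι : Type*} [Finite ι] (g : ι → A) (Ai : ι → Type u) [∀ i, CommRing (Ai i)]
    [∀ i, Algebra A (Ai i)] [∀ i, IsLocalization.Away (g i) (Ai i)] (Mi : ι → Type u) [∀ i, AddCommGroup (Mi i)]
    [∀ i, Module A (Mi i)] [∀ i, Module (Ai i) (Mi i)] [∀ i, IsScalarTower A (Ai i) (Mi i)]
    (r : ∀ i, M →ₗ[A] Mi i) [∀ i, IsLocalizedModule.Away (g i) (r i)]
    [∀ i, Module.FinitePresentation (Ai i) (Mi i)] (T : Finset M) :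
    ∃ (N : Type u) (_ : AddCommGroup N) (_ : Module A N) (f : N →ₗ[A] M),
      Module.FinitePresentation A N ∧ (↑T : Set M) ⊆ Set.range f ∧
      (∀ i, ∀ m : M, ∃ (k : ℕ) (n : N), f n = g i ^ k • m) ∧
      ∀ i, ∀ n : N, f n = 0 → ∃ k : ℕ, g i ^ k • n = 0 := by
  classical
  haveI := Fintype.ofFinite ι
  have hfin : ∀ i, ∃ s : Finset M, Submodule.span (Ai i) (r i '' (s : Set M)) = ⊤ := fun i => by
    obtain ⟨t, ht⟩ := (Module.Finite.fg_top : (⊤ : Submodule (Ai i) (Mi i)).FG)
    choose nu hnu using fun z : Mi i => IsLocalizedModule.surj (Submonoid.powers (g i)) (r i) z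
    refine ⟨t.image fun z => (nu z).1, eq_top_iff.mpr (ht ▸ Submodule.span_le.mpr fun z hz => ?_)⟩
    obtain ⟨k, hk⟩ := (nu z).2.2
    have h := hnu z
    have hu : IsUnit (algebraMap A (Ai i) (g i ^ k)) := by
      rw [map_pow]; exact (IsLocalization.Away.algebraMap_isUnit (g i)).pow k
    rw [show ((nu z).2 • z : Mi i) = algebraMap A (Ai i) (g i ^ k) • z by
      rw [algebraMap_smul, Submonoid.smul_def]; exact congrArg (· • z) hk.symm] at h
    rw [SetLike.mem_coe, ← Submodule.smul_mem_iff_of_isUnit _ hu, h]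
    exact Submodule.subset_span ⟨_, Finset.mem_image_of_mem (fun z => (nu z).1) hz, rfl⟩
  choose s hs using hfin
  let S : Finset M := T ∪ Finset.univ.biUnion s
  let F := ↥S →₀ A
  let f₀ : F →ₗ[A] M := Finsupp.linearCombination A (fun x : S => (x : M))
  let μ : ∀ i, F →ₗ[A] (↥S →₀ Ai i) := fun i => Finsupp.mapRange.linearMap (Algebra.linearMap A (Ai i))
  haveI : ∀ i, IsLocalizedModule (Submonoid.powers (g i)) (μ i) := fun i => inferInstanceAs
    (IsLocalizedModule (Submonoid.powers (g i)) (Finsupp.mapRange.linearMap (Algebra.linearMap A (Ai i))))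
  let φ : ∀ i, (↥S →₀ Ai i) →ₗ[Ai i] Mi i := fun i => Finsupp.linearCombination (Ai i) (fun x : S => r i (x : M))
  have hφμ : ∀ i v, φ i (μ i v) = r i (f₀ v) := fun i v => by
    induction v using Finsupp.induction_linear with
    | zero => simp
    | add a b ha hb => simp only [map_add, ha, hb]
    | single x a =>
      show φ i (Finsupp.mapRange (Algebra.linearMap A (Ai i)) (map_zero _) (Finsupp.single x a)) = _
      rw [Finsupp.mapRange_single]
      simp only [φ, f₀]
      erw [Finsupp.linearCombination_single, Finsupp.linearCombination_single]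
      rw [map_smul, Algebra.linearMap_apply, algebraMap_smul]
  have hφs : ∀ i, Function.Surjective (φ i) := fun i => by
    rw [← LinearMap.range_eq_top, eq_top_iff, ← hs i, Submodule.span_le]
    rintro _ ⟨m, hm, rfl⟩
    exact ⟨Finsupp.single ⟨m, Finset.mem_union_right _ (Finset.mem_biUnion.mpr ⟨i, Finset.mem_univ i, hm⟩)⟩ 1,
      by simp [φ]⟩
  have hgens : ∀ i, ∃ R : Finset F, (↑R : Set F) ⊆ LinearMap.ker f₀ ∧
      LinearMap.ker (φ i) ≤ Submodule.span (Ai i) (μ i '' (R : Set F)) := fun i => by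
    obtain ⟨t, ht⟩ := Module.FinitePresentation.fg_ker (φ i) (hφs i)
    have hz : ∀ z : t, ∃ (k : ℕ) (v : F), f₀ v = 0 ∧ μ i v = g i ^ k • (z : ↥S →₀ Ai i) := fun z => by
      obtain ⟨⟨v, ⟨_, k, rfl⟩⟩, hv⟩ := IsLocalizedModule.surj (Submonoid.powers (g i)) (μ i) (z : ↥S →₀ Ai i)
      have hv' : g i ^ k • (z : ↥S →₀ Ai i) = μ i v := hv
      have h0 : r i (f₀ v) = 0 := by
        have hz0 : φ i (z : ↥S →₀ Ai i) = 0 := LinearMap.mem_ker.mp (ht ▸ Submodule.subset_span z.2)
        rw [← hφμ, ← hv', LinearMap.map_smul_of_tower, hz0, smul_zero]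
      obtain ⟨⟨_, l, rfl⟩, hl⟩ := (IsLocalizedModule.eq_zero_iff (Submonoid.powers (g i)) (r i)).mp h0
      refine ⟨l + k, g i ^ l • v, ?_, ?_⟩
      · rw [map_smul]; exact hl
      · rw [map_smul, ← hv', pow_add, mul_smul]
    choose k v hv hμv using hz
    refine ⟨Finset.univ.image v, ?_, ?_⟩
    · intro w hw
      obtain ⟨z, -, rfl⟩ := Finset.mem_image.mp (Finset.mem_coe.mp hw)
      exact hv z
    · rw [← ht, Submodule.span_le]
      intro z hz
      have hu : IsUnit (algebraMap A (Ai i) (g i ^ k ⟨z, hz⟩)) := by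
        rw [map_pow]; exact (IsLocalization.Away.algebraMap_isUnit (g i)).pow _
      rw [SetLike.mem_coe, ← Submodule.smul_mem_iff_of_isUnit _ hu, algebraMap_smul, ← hμv ⟨z, hz⟩]
      exact Submodule.subset_span ⟨_, Finset.mem_image_of_mem v (Finset.mem_univ _), rfl⟩
  choose R hR hRker using hgens
  let K : Submodule A F := Submodule.span A ((Finset.univ.biUnion R : Finset F) : Set F)
  have hK : K ≤ LinearMap.ker f₀ := Submodule.span_le.mpr fun w hw => by
    obtain ⟨i, -, hi⟩ := Finset.mem_biUnion.mp (Finset.mem_coe.mp hw)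
    exact hR i hi
  refine ⟨F ⧸ K, inferInstance, inferInstance, K.liftQ f₀ hK, ?_, ?_, ?_, ?_⟩
  · refine Module.finitePresentation_of_surjective K.mkQ K.mkQ_surjective ?_
    rw [Submodule.ker_mkQ]
    exact Submodule.fg_span (Finset.finite_toSet _)
  · intro m hm
    refine ⟨K.mkQ (Finsupp.single ⟨m, Finset.mem_union_left _ hm⟩ 1), ?_⟩
    rw [Submodule.mkQ_apply, Submodule.liftQ_apply]
    exact (Finsupp.linearCombination_single _ _ _).trans (one_smul _ _)
  · intro i m
    obtain ⟨w, hw⟩ := hφs i (r i m)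
    obtain ⟨⟨v, ⟨_, k, rfl⟩⟩, hv⟩ := IsLocalizedModule.surj (Submonoid.powers (g i)) (μ i) w
    have hv' : g i ^ k • w = μ i v := hv
    have h0 : r i (f₀ v) = r i (g i ^ k • m) := by
      rw [← hφμ, ← hv', LinearMap.map_smul_of_tower, hw, map_smul]
    obtain ⟨⟨_, l, rfl⟩, hl⟩ := (IsLocalizedModule.eq_iff_exists (Submonoid.powers (g i)) (r i)).mp h0
    refine ⟨l + k, K.mkQ (g i ^ l • v), ?_⟩
    rw [Submodule.mkQ_apply, Submodule.liftQ_apply, map_smul, pow_add, mul_smul]
    exact hl
  · intro i n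
    obtain ⟨v, rfl⟩ := K.mkQ_surjective n
    intro hv
    have h1 : μ i v ∈ Submodule.span (Ai i) (μ i '' (R i : Set F)) :=
      hRker i (by rw [LinearMap.mem_ker, hφμ, show f₀ v = 0 from hv, map_zero])
    have key : ∀ x ∈ Submodule.span (Ai i) (μ i '' (R i : Set F)), ∃ (k : ℕ), ∃ q ∈ K, μ i q = g i ^ k • x := by
      intro x hx
      induction hx using Submodule.span_induction with
      | mem x hx =>
        obtain ⟨q, hq, rfl⟩ := hx
        exact ⟨0, q, Submodule.subset_span (Finset.mem_biUnion.mpr ⟨i, Finset.mem_univ i, hq⟩), by simp⟩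
      | zero => exact ⟨0, 0, zero_mem _, by simp⟩
      | add x y _ _ hx hy =>
        obtain ⟨a, q, hq, hqx⟩ := hx
        obtain ⟨b, q', hq', hqy⟩ := hy
        refine ⟨a + b, g i ^ b • q + g i ^ a • q', add_mem (K.smul_mem _ hq) (K.smul_mem _ hq'), ?_⟩
        rw [map_add, map_smul, map_smul, hqx, hqy, smul_smul, smul_smul, smul_add, ← pow_add, ← pow_add, add_comm b a]
      | smul c x _ hx =>
        obtain ⟨a, q, hq, hqx⟩ := hx
        obtain ⟨⟨c', ⟨_, b, rfl⟩⟩, hc⟩ := IsLocalization.surj (Submonoid.powers (g i)) c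
        refine ⟨b + a, c' • q, K.smul_mem _ hq, ?_⟩
        rw [map_smul, hqx, smul_comm, ← algebraMap_smul (Ai i) c', ← hc, pow_add, mul_smul, mul_smul,
          algebraMap_smul, smul_comm c (g i ^ b), smul_comm (g i ^ a) (g i ^ b), smul_comm (g i ^ a) c]
    obtain ⟨k, q, hq, hqx⟩ := key _ h1
    have h2 : μ i (g i ^ k • v) = μ i q := by rw [map_smul, hqx]
    obtain ⟨⟨_, l, rfl⟩, hl⟩ := (IsLocalizedModule.eq_iff_exists (Submonoid.powers (g i)) (μ i)).mp h2
    refine ⟨l + k, ?_⟩
    rw [← map_smul, Submodule.mkQ_apply, Submodule.Quotient.mk_eq_zero, pow_add, mul_smul]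
    rw [show (g i ^ l • g i ^ k • v : F) = g i ^ l • q from hl]
    exact K.smul_mem _ hq

end Groth.Agent.FPApproxLib
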