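import Groth.Agent.FPApproxLib.FiniteModel
import Groth.Agent.S7396
import Groth.Agent.S4599
import Groth.Agent.AffLim.Existence
import Groth.Agent.AffLim.Stalks
import Mathlib.CategoryTheory.Presentable.Directed

/-! An integral scheme over a quasi-compact quasi-separated base is a cofiltered limit of finite schemes of
finite presentation. -/

set_option autoImplicit false
set_option linter.style.haveILetI false
set_option backward.isDefEq.respectTransparency false

universe u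

open CategoryTheory CategoryTheory.Limits AlgebraicGeometry TopologicalSpace Opposite

noncomputable section

namespace Groth.Agent.FPApproxLib

variable {X S : Scheme.{u}}

theorem appLE_comp_apply {A B C : Scheme.{u}} (a : A ⟶ B) (b : B ⟶ C) {c : A ⟶ C} (hc : a ≫ b = c)
    {U : C.Opens} {V : B.Opens} {W : A.Opens} (e₁ : V ≤ b ⁻¹ᵁ U) (e₂ : W ≤ a ⁻¹ᵁ V) (e₃ : W ≤ c ⁻¹ᵁ U)
    (x : Γ(C, U)) : a.appLE V W e₂ (b.appLE U V e₁ x) = c.appLE U W e₃ x := by
  subst hc
  exact ConcreteCategory.congr_hom (Scheme.Hom.appLE_comp_appLE a b U V W e₁ e₂) x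

theorem bijective_map_of_eq {Z : Scheme.{u}} {U V : Z.Opens} (h : U = V) (i : V ⟶ U) :
    Function.Bijective (Z.presheaf.map i.op) := by
  subst h
  rw [Subsingleton.elim i (𝟙 U), op_id, CategoryTheory.Functor.map_id]
  exact Function.bijective_id

theorem surjective_appLE_of_isClosedImmersion {A B : Scheme.{u}} (k : A ⟶ B) [IsClosedImmersion k]
    {V : B.Opens} (hV : IsAffineOpen V) {V' : A.Opens} (e : V' = k ⁻¹ᵁ V) :
    Function.Surjective (k.appLE V V' e.le) := by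
  subst e
  rw [Scheme.Hom.appLE_eq_app]
  exact k.app_surjective V hV

/-- A finite scheme of finite presentation over `S` under `X`. -/
structure FinUnder (f : X ⟶ S) where
  obj : Over S
  p : Over.mk f ⟶ obj
  hfin : IsFinite obj.hom
  hlfp : LocallyOfFinitePresentation obj.hom

theorem pre_hom {A B : Over S} (u : A ⟶ B) (W : S.Opens) : A.hom ⁻¹ᵁ W ≤ u.left ⁻¹ᵁ (B.hom ⁻¹ᵁ W) := by
  rw [← Scheme.Hom.comp_preimage, Over.w u]

variable {f : X ⟶ S}

theorem FinUnder.pre (a : FinUnder f) (W : S.Opens) : f ⁻¹ᵁ W = a.p.left ⁻¹ᵁ (a.obj.hom ⁻¹ᵁ W) := by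
  rw [← Scheme.Hom.comp_preimage, Over.w a.p]
  rfl

theorem FinUnder.affine (a : FinUnder f) (W : S.affineOpens) : IsAffineOpen (a.obj.hom ⁻¹ᵁ W.1) :=
  haveI := a.hfin
  W.2.preimage a.obj.hom

variable [IsIntegralHom f] [CompactSpace S] [QuasiSeparatedSpace S]

theorem exists_hit_finUnder (W : S.affineOpens) (b : Γ(X, f ⁻¹ᵁ W.1)) :
    ∃ (a : FinUnder f) (t : Γ(a.obj.left, a.obj.hom ⁻¹ᵁ W.1)),
      a.p.left.appLE (a.obj.hom ⁻¹ᵁ W.1) (f ⁻¹ᵁ W.1) (a.pre W.1).le t = b := by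
  let F := RelSpec.QCAlg.directImage f
  haveI : Coh.IsQCoh F.toModule := ProjBundleLib.isQCoh_toModule F
  obtain ⟨E, i, hE, hfp, g, hg⟩ := exists_fp_hit F.toModule W.2 (b : Γ(F.toModule, W.1))
  haveI := hE
  have hA := RelSpecLib.isSymAlg_symAlg E
  let A := RelSpecLib.symAlg E
  obtain ⟨ψ, hψ, -⟩ := hA F i
  let j := RelSpecLib.lift A f ψ.hom
  have hj : j ≫ A.π = f := RelSpecLib.lift_π A f ψ.hom ψ.comm
  haveI : IsAffineHom A.π := ⟨fun U hU => RelSpecLib.isAffineOpen_preimage A U hU⟩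
  haveI := lfp_π_symAlg E hfp
  haveI : IsIntegralHom (j ≫ A.π) := hj ▸ ‹IsIntegralHom f›
  haveI : IsIntegralHom j := IsIntegralHom.of_comp j A.π
  let f' : j.image ⟶ S := j.imageι ≫ A.π
  have hf' : j.toImage ≫ f' = f := by rw [Scheme.Hom.toImage_imageι_assoc, hj]
  haveI : IsIntegralHom (j.toImage ≫ j.imageι) := by rw [Scheme.Hom.toImage_imageι]; infer_instance
  haveI : IsIntegralHom j.toImage := IsIntegralHom.of_comp j.toImage j.imageι
  haveI : Surjective j.toImage := ⟨by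
    rw [← Set.range_eq_univ, ← j.toImage.isClosedMap.isClosed_range.closure_eq,
      j.toImage.denseRange.closure_range]⟩
  haveI : IsIntegralHom (j.toImage ≫ f') := hf'.symm ▸ ‹IsIntegralHom f›
  haveI : UniversallyClosed f' := UniversallyClosed.of_comp_surjective j.toImage f'
  haveI : IsFinite f' := (IsFinite.iff_isIntegralHom_and_locallyOfFiniteType _).mpr
    ⟨IsIntegralHom.iff_universallyClosed_and_isAffineHom.mpr ⟨inferInstance, inferInstance⟩, inferInstance⟩
  obtain ⟨X', g', k, hg', hg'fp, hk, hkg⟩ := S7396.result f'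
  haveI := hg'
  haveI := hk
  let a : FinUnder f := ⟨Over.mk g', Over.homMk (j.toImage ≫ k) (by
    show (j.toImage ≫ k) ≫ g' = f
    rw [Category.assoc, hkg, hf']), hg', hg'fp⟩
  haveI := SpecQCAlg.isIso_gammaAff A W.1 W.2
  obtain ⟨σ, hσ⟩ := (ConcreteCategory.bijective_of_isIso (A.gammaAff W.1 W.2)).2
    (RelSpecLib.jsec A (RelSpecLib.symJ E) g)
  have hpre : f ⁻¹ᵁ W.1 = j ⁻¹ᵁ (A.π ⁻¹ᵁ W.1) := by rw [← Scheme.Hom.comp_preimage, hj]
  have hb : j.appLE (A.π ⁻¹ᵁ W.1) (f ⁻¹ᵁ W.1) hpre.le σ = b := by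
    have h := RelSpecLib.gammaAff_algMap A f j hj W.1 W.2
    rw [show RelSpecLib.algMap A f j hj = ψ.hom from RelSpecLib.algMap_lift A f ψ.hom ψ.comm] at h
    refine ((congrArg (fun φ => φ σ) h).symm.trans ?_ : _)
    show (ψ.hom.app (op W.1)).hom ((A.gammaAff W.1 W.2).hom σ) = b
    rw [hσ]
    exact (congrArg (fun q : E ⟶ F.toModule => q.app W.1 g) hψ).trans hg
  have hk' : j.imageι ⁻¹ᵁ (A.π ⁻¹ᵁ W.1) = k ⁻¹ᵁ (g' ⁻¹ᵁ W.1) := by
    rw [← Scheme.Hom.comp_preimage, ← Scheme.Hom.comp_preimage, hkg]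
  obtain ⟨t, ht⟩ := surjective_appLE_of_isClosedImmersion k (W.2.preimage g') hk'
    (j.imageι.app (A.π ⁻¹ᵁ W.1) σ)
  refine ⟨a, t, ?_⟩
  have e₂ : f ⁻¹ᵁ W.1 ≤ j.toImage ⁻¹ᵁ (j.imageι ⁻¹ᵁ (A.π ⁻¹ᵁ W.1)) := by
    rw [← Scheme.Hom.comp_preimage, Scheme.Hom.toImage_imageι]
    exact hpre.le
  have h3 := appLE_comp_apply j.toImage k (c := a.p.left) rfl hk'.le e₂ (a.pre W.1).le t
  refine h3.symm.trans ?_
  rw [ht]
  refine Eq.trans ?_ hb
  rw [← Scheme.Hom.appLE_eq_app]
  exact appLE_comp_apply j.toImage j.imageι j.toImage_imageι le_rfl e₂ hpre.le σ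

theorem exists_kill_finUnder (a : FinUnder f) (W : S.affineOpens) (t : Γ(a.obj.left, a.obj.hom ⁻¹ᵁ W.1))
    (ht : a.p.left.appLE (a.obj.hom ⁻¹ᵁ W.1) (f ⁻¹ᵁ W.1) (a.pre W.1).le t = 0) :
    ∃ (b : FinUnder f) (q : Under.mk b.p ⟶ Under.mk a.p),
      q.right.left.appLE (a.obj.hom ⁻¹ᵁ W.1) (b.obj.hom ⁻¹ᵁ W.1)
        (pre_hom q.right W.1) t = 0 := by
  haveI := a.hfin
  haveI := a.hlfp
  haveI : CompactSpace a.obj.left := QuasiCompact.compactSpace_of_compactSpace a.obj.hom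
  haveI : QuasiSeparatedSpace a.obj.left := quasiSeparatedSpace_of_quasiSeparated a.obj.hom
  haveI : IsIntegralHom (a.p.left ≫ a.obj.hom) := (Over.w a.p).symm ▸ ‹IsIntegralHom f›
  haveI : IsIntegralHom a.p.left := IsIntegralHom.of_comp a.p.left a.obj.hom
  have hker : t ∈ a.p.left.ker.ideal ⟨_, a.affine W⟩ := by
    rw [Scheme.Hom.ker_apply, RingHom.mem_ker]
    refine (bijective_map_of_eq (a.pre W.1).symm (homOfLE (a.pre W.1).le)).1 (ht.trans (map_zero _).symm)
  obtain ⟨J, hJle, hJfg, hJt⟩ := FTIdealLib.exists_ft_le_mem a.p.left.ker ⟨_, a.affine W⟩ hker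
  haveI : LocallyOfFinitePresentation J.subschemeι :=
    (S4613.result J.subschemeι).mpr fun U => by rw [Scheme.IdealSheafData.ker_subschemeι_app]; exact hJfg U
  let p' := IsClosedImmersion.lift J.subschemeι a.p.left (J.ker_subschemeι.trans_le hJle)
  have hp' : p' ≫ J.subschemeι = a.p.left := IsClosedImmersion.lift_fac _ _ _
  have hJ0 : J.subschemeι.app (a.obj.hom ⁻¹ᵁ W.1) t = 0 := by
    rw [← RingHom.mem_ker, ← J.subschemeι.ker_apply ⟨_, a.affine W⟩, J.ker_subschemeι]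
    exact hJt
  refine ⟨⟨Over.mk (J.subschemeι ≫ a.obj.hom),
    Over.homMk p' (by show p' ≫ J.subschemeι ≫ a.obj.hom = f; rw [← Category.assoc, hp']; exact Over.w a.p),
    inferInstanceAs (IsFinite (J.subschemeι ≫ a.obj.hom)),
    inferInstanceAs (LocallyOfFinitePresentation (J.subschemeι ≫ a.obj.hom))⟩, Under.homMk (Over.homMk J.subschemeι rfl) (by ext1; exact hp'), ?_⟩
  show J.subschemeι.appLE _ _ _ t = 0
  rw [Scheme.Hom.appLE, ConcreteCategory.comp_apply, hJ0, map_zero]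

theorem exists_prod_finUnder (a b : FinUnder f) :
    ∃ c : FinUnder f, Nonempty (Under.mk c.p ⟶ Under.mk a.p) ∧ Nonempty (Under.mk c.p ⟶ Under.mk b.p) := by
  haveI := a.hfin
  haveI := a.hlfp
  haveI := b.hfin
  haveI := b.hlfp
  let l : X ⟶ pullback a.obj.hom b.obj.hom :=
    pullback.lift a.p.left b.p.left ((Over.w a.p).trans (Over.w b.p).symm)
  refine ⟨⟨Over.mk (pullback.fst a.obj.hom b.obj.hom ≫ a.obj.hom),
    Over.homMk l (by show l ≫ _ ≫ _ = f; rw [← Category.assoc, pullback.lift_fst]; exact Over.w a.p),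
    inferInstanceAs (IsFinite (pullback.fst a.obj.hom b.obj.hom ≫ a.obj.hom)),
    inferInstanceAs (LocallyOfFinitePresentation (pullback.fst a.obj.hom b.obj.hom ≫ a.obj.hom))⟩, ⟨Under.homMk (Over.homMk (pullback.fst _ _) rfl) (by ext1; exact pullback.lift_fst _ _ _)⟩,
    ⟨Under.homMk (Over.homMk (pullback.snd _ _) pullback.condition.symm) (by ext1; exact pullback.lift_snd _ _ _)⟩⟩

theorem exists_equalizer_finUnder (a b : FinUnder f) (u v : Under.mk a.p ⟶ Under.mk b.p) :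
    ∃ (c : FinUnder f) (q : Under.mk c.p ⟶ Under.mk a.p), q ≫ u = q ≫ v := by
  haveI := a.hfin
  haveI := a.hlfp
  haveI := b.hfin
  haveI := b.hlfp
  let g := b.obj.hom
  let u' : a.obj.left ⟶ b.obj.left := u.right.left
  let v' : a.obj.left ⟶ b.obj.left := v.right.left
  let r : a.obj.left ⟶ pullback g g := pullback.lift u' v' ((Over.w u.right).trans (Over.w v.right).symm)
  haveI : LocallyOfFinitePresentation (pullback.diagonal g) := S4599.result g
  let e := pullback.fst r (pullback.diagonal g)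
  have he : e ≫ u' = e ≫ v' := by
    have h1 := congrArg (· ≫ pullback.fst g g) (pullback.condition (f := r) (g := pullback.diagonal g))
    have h2 := congrArg (· ≫ pullback.snd g g) (pullback.condition (f := r) (g := pullback.diagonal g))
    simp [r] at h1 h2
    exact h1.trans h2.symm
  have hu : a.p.left ≫ u' = b.p.left := congrArg (fun φ => φ.left) (Under.w u)
  have hv : a.p.left ≫ v' = b.p.left := congrArg (fun φ => φ.left) (Under.w v)
  let l : X ⟶ pullback r (pullback.diagonal g) := pullback.lift a.p.left b.p.left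
    (by apply pullback.hom_ext <;> simp [r, hu, hv])
  refine ⟨⟨Over.mk (e ≫ a.obj.hom), Over.homMk l (by
      show l ≫ _ ≫ _ = f; rw [← Category.assoc, pullback.lift_fst]; exact Over.w a.p),
    inferInstanceAs (IsFinite (e ≫ a.obj.hom)),
    inferInstanceAs (LocallyOfFinitePresentation (e ≫ a.obj.hom))⟩, Under.homMk (Over.homMk e rfl) (by ext1; exact pullback.lift_fst _ _ _), ?_⟩
  ext
  exact he

variable (f)

set_option maxHeartbeats 1000000 in
/-- Finitely many steps of products, equalizers and closed subschemes. -/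
def fstage : ℕ → Σ I : Type u, (I → FinUnder f)
  | 0 => ⟨Σ W : S.affineOpens, Γ(X, f ⁻¹ᵁ W.1), fun k => (exists_hit_finUnder k.1 k.2).choose⟩
  | n + 1 =>
    let T := fstage n
    ⟨T.1 ⊕ (T.1 × T.1) ⊕
      (Σ (i : T.1) (j : T.1), (Under.mk (T.2 i).p ⟶ Under.mk (T.2 j).p) × (Under.mk (T.2 i).p ⟶ Under.mk (T.2 j).p)) ⊕
      (Σ (i : T.1) (W : S.affineOpens), {t : Γ((T.2 i).obj.left, (T.2 i).obj.hom ⁻¹ᵁ W.1) //
        (T.2 i).p.left.appLE ((T.2 i).obj.hom ⁻¹ᵁ W.1) (f ⁻¹ᵁ W.1) ((T.2 i).pre W.1).le t = 0}),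
      Sum.elim T.2 <| Sum.elim (fun k => (exists_prod_finUnder (T.2 k.1) (T.2 k.2)).choose) <|
        Sum.elim (fun k => (exists_equalizer_finUnder (T.2 k.1) (T.2 k.2.1) k.2.2.1 k.2.2.2).choose)
          fun k => (exists_kill_finUnder (T.2 k.1) k.2.1 k.2.2.1 k.2.2.2).choose⟩

/-- All stages. -/
def FIdx : Type u := Σ n : ℕ, (fstage f n).1

/-- The scheme of an index. -/
def fObj (k : FIdx f) : FinUnder f := (fstage f k.1).2 k.2

theorem fexists_raise (k : FIdx f) (n : ℕ) (h : k.1 ≤ n) : ∃ i : (fstage f n).1, (fstage f n).2 i = fObj f k := by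
  induction h with
  | refl => exact ⟨k.2, rfl⟩
  | step _ ih =>
    obtain ⟨i, hi⟩ := ih
    exact ⟨Sum.inl i, hi⟩

/-- The index category. -/
abbrev FIx : Type u := InducedCategory (Under (Over.mk f)) fun k : FIdx f => Under.mk (fObj f k).p

theorem exists_prod_idx (a b : FIx f) : ∃ c : FIx f, Nonempty (c ⟶ a) ∧ Nonempty (c ⟶ b) := by
  obtain ⟨i, hi⟩ := fexists_raise f a _ (le_max_left a.1 b.1)
  obtain ⟨j, hj⟩ := fexists_raise f b _ (le_max_right a.1 b.1)
  let P := fun o o' : FinUnder f => Nonempty (Under.mk o.p ⟶ Under.mk o'.p)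
  let c : FIdx f := ⟨max a.1 b.1 + 1, Sum.inr (Sum.inl (i, j))⟩
  obtain ⟨⟨p1⟩, ⟨p2⟩⟩ : P (fObj f c) (fObj f a) ∧ P (fObj f c) (fObj f b) := by
    rw [← hi, ← hj]
    exact (exists_prod_finUnder _ _).choose_spec
  exact ⟨c, ⟨InducedCategory.homMk p1⟩, ⟨InducedCategory.homMk p2⟩⟩

theorem exists_equalizer_idx (a b : FIdx f) (u v : Under.mk (fObj f a).p ⟶ Under.mk (fObj f b).p) :
    ∃ (c : FIdx f) (q : Under.mk (fObj f c).p ⟶ Under.mk (fObj f a).p), q ≫ u = q ≫ v := by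
  let Q := fun (o o' : FinUnder f) => ∀ u v : Under.mk o.p ⟶ Under.mk o'.p,
    ∃ (c : FIdx f) (q : Under.mk (fObj f c).p ⟶ Under.mk o.p), q ≫ u = q ≫ v
  obtain ⟨i, hi⟩ := fexists_raise f a _ (le_max_left a.1 b.1)
  obtain ⟨j, hj⟩ := fexists_raise f b _ (le_max_right a.1 b.1)
  have h : Q (fObj f a) (fObj f b) := by
    rw [← hi, ← hj]
    intro u v
    exact ⟨⟨max a.1 b.1 + 1, Sum.inr (Sum.inr (Sum.inl ⟨i, j, u, v⟩))⟩,
      (exists_equalizer_finUnder _ _ u v).choose_spec⟩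
  exact h u v

theorem isCofiltered_fix : IsCofiltered (FIx f) := by
  haveI : IsCofilteredOrEmpty (FIx f) :=
    { cone_objs := fun a b => by
        obtain ⟨c, ⟨p⟩, ⟨q⟩⟩ := exists_prod_idx f a b
        exact ⟨c, p, q, trivial⟩
      cone_maps := fun a b u v => by
        obtain ⟨c, q, hq⟩ := exists_equalizer_idx f a b u.hom v.hom
        exact ⟨(c : FIx f), InducedCategory.homMk q, InducedCategory.hom_ext hq⟩ }
  haveI : Nonempty (FIx f) := ⟨⟨0, ⟨⊥, isAffineOpen_bot S⟩, 0⟩⟩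
  exact {}

/-- The diagram. -/
def fDiag : FIx f ⥤ Over S := inducedFunctor _ ⋙ Under.forget _

/-- The cone with vertex `f`. -/
def fCone : Cone (fDiag f) where
  pt := Over.mk f
  π :=
    { app := fun k => (fObj f k).p
      naturality := fun _ _ u => (Category.id_comp _).trans (Under.w ((inducedFunctor _).map u)).symm }

instance isAffineHom_fDiag_map {i j : FIx f} (u : i ⟶ j) : IsAffineHom ((fDiag f ⋙ Over.forget S).map u) := by
  haveI : IsFinite (fObj f j).obj.hom := (fObj f j).hfin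
  haveI : IsFinite (fObj f i).obj.hom := (fObj f i).hfin
  haveI : IsAffineHom (((fDiag f).map u).left ≫ (fObj f j).obj.hom) := by
    erw [Over.w ((fDiag f).map u)]
    exact inferInstanceAs (IsAffineHom (fObj f i).obj.hom)
  exact MorphismProperty.of_postcomp (W := @IsAffineHom) (W' := @IsSeparated) ((fDiag f).map u).left
    (fObj f j).obj.hom inferInstance ‹_›

theorem isLimit_fCone : Nonempty (IsLimit (fCone f)) := by
  haveI := isCofiltered_fix f
  obtain ⟨L, hL, hLaff⟩ := AffLim.exists_isLimit (fDiag f ⋙ Over.forget S)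
  let h : X ⟶ L.pt := hL.lift ((Over.forget S).mapCone (fCone f))
  have hfac : ∀ k, h ≫ L.π.app k = (fObj f k).p.left := fun k => hL.fac ((Over.forget S).mapCone (fCone f)) k
  let k₀ : FIx f := ⟨0, ⟨⊥, isAffineOpen_bot S⟩, 0⟩
  let g : L.pt ⟶ S := L.π.app k₀ ≫ (fObj f k₀).obj.hom
  have hg : h ≫ g = f := by
    show h ≫ L.π.app k₀ ≫ (fObj f k₀).obj.hom = f
    rw [← Category.assoc, hfac]
    exact Over.w (fObj f k₀).p
  haveI : IsFinite (fObj f k₀).obj.hom := (fObj f k₀).hfin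
  haveI : IsAffineHom (L.π.app k₀) := hLaff k₀
  haveI : IsAffineHom g :=
    MorphismProperty.comp_mem @IsAffineHom (L.π.app k₀) (fObj f k₀).obj.hom ‹_› inferInstance
  haveI : IsIso h := by
    refine IsZariskiLocalAtTarget.of_iSup_eq_top (P := MorphismProperty.isomorphisms Scheme)
      (fun W : S.affineOpens => g ⁻¹ᵁ W.1) ?_ fun W => ?_
    · exact (Scheme.Hom.iSup_preimage_eq_top g (iSup_affineOpens_eq_top S) :)
    haveI : IsAffine (g ⁻¹ᵁ W.1).toScheme := W.2.preimage g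
    have hpre : f ⁻¹ᵁ W.1 = h ⁻¹ᵁ (g ⁻¹ᵁ W.1) := by rw [← Scheme.Hom.comp_preimage, hg]
    have hkL : ∀ k : FIx f, g ⁻¹ᵁ W.1 = L.π.app k ⁻¹ᵁ ((fObj f k).obj.hom ⁻¹ᵁ W.1) := fun k => by
      obtain ⟨m, p, q, -⟩ := IsCofilteredOrEmpty.cone_objs k₀ k
      rw [← Scheme.Hom.comp_preimage]
      refine congrArg (fun r : L.pt ⟶ S => r ⁻¹ᵁ W.1) (show L.π.app k₀ ≫ (fObj f k₀).obj.hom =
        L.π.app k ≫ (fObj f k).obj.hom from ?_)
      rw [← L.w p, ← L.w q, Category.assoc, Category.assoc]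
      congr 1
      exact (Over.w ((fDiag f).map p)).trans (Over.w ((fDiag f).map q)).symm
    have hbij : Function.Bijective (h.appLE (g ⁻¹ᵁ W.1) (f ⁻¹ᵁ W.1) hpre.le) := by
      refine ⟨(injective_iff_map_eq_zero _).2 fun s hs => ?_, fun b => ?_⟩
      · have e0 := hkL k₀
        obtain ⟨j, φ, e, t, ht⟩ := AffLim.exists_appLE_eq (fDiag f ⋙ Over.forget S) L hL
          ((fObj f k₀).affine W) (L.pt.presheaf.map (homOfLE e0.ge).op s)
        let φ' : (fObj f j).obj.left ⟶ (fObj f k₀).obj.left := ((fDiag f).map φ).left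
        have hφ : (fObj f j).obj.hom ⁻¹ᵁ W.1 = φ' ⁻¹ᵁ ((fObj f k₀).obj.hom ⁻¹ᵁ W.1) := by
          rw [← Scheme.Hom.comp_preimage]
          exact congrArg (fun r : _ ⟶ S => r ⁻¹ᵁ W.1) (Over.w ((fDiag f).map φ)).symm
        let t' : Γ((fObj f j).obj.left, (fObj f j).obj.hom ⁻¹ᵁ W.1) :=
          (fObj f j).obj.left.presheaf.map (homOfLE hφ.le).op t
        have ht' : (L.π.app j).appLE ((fObj f j).obj.hom ⁻¹ᵁ W.1) (g ⁻¹ᵁ W.1) (hkL j).le t' = s := by
          refine (bijective_map_of_eq e0.symm (homOfLE e0.ge)).1 (Eq.trans ?_ ht)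
          refine (ConcreteCategory.congr_hom (Scheme.Hom.appLE_map _ _ (homOfLE e0.ge).op) t').trans ?_
          exact ConcreteCategory.congr_hom (Scheme.Hom.map_appLE _ _ (homOfLE hφ.le).op) t
        have hz : (fObj f j).p.left.appLE ((fObj f j).obj.hom ⁻¹ᵁ W.1) (f ⁻¹ᵁ W.1)
            ((fObj f j).pre W.1).le t' = 0 := by
          exact ((appLE_comp_apply h (L.π.app j) (hfac j) (hkL j).le hpre.le _ t').symm.trans
            (congrArg _ ht')).trans hs
        let b : FIx f := ⟨j.1 + 1, Sum.inr (Sum.inr (Sum.inr ⟨j.2, W, t', hz⟩))⟩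
        obtain ⟨q, hq⟩ : ∃ q : Under.mk (fObj f b).p ⟶ Under.mk (fObj f j).p,
            q.right.left.appLE ((fObj f j).obj.hom ⁻¹ᵁ W.1) ((fObj f b).obj.hom ⁻¹ᵁ W.1)
              (pre_hom q.right W.1) t' = 0 :=
          (exists_kill_finUnder (fObj f j) W t' hz).choose_spec
        refine ht'.symm.trans (((appLE_comp_apply (L.π.app b) q.right.left
          (L.w (InducedCategory.homMk q : b ⟶ j)) (pre_hom q.right W.1) (hkL b).le (hkL j).le t').symm.trans
          (congrArg _ hq)).trans (map_zero _))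
      · let k : FIx f := ⟨0, W, b⟩
        obtain ⟨t, ht⟩ := (exists_hit_finUnder W b).choose_spec
        refine ⟨(L.π.app k).appLE _ _ (hkL k).le t, ?_⟩
        exact (appLE_comp_apply h (L.π.app k) (hfac k) (hkL k).le hpre.le ((fObj f k).pre W.1).le t).trans ht
    have hV : ∀ V : L.pt.Opens, V = g ⁻¹ᵁ W.1 → IsIso (h.app V) := fun V hV => by
      subst hV
      rw [ConcreteCategory.isIso_iff_bijective]
      refine (bijective_map_of_eq hpre.symm (homOfLE hpre.le)).of_comp_iff' _ |>.1 ?_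
      exact hbij
    rw [HasAffineProperty.iff_of_isAffine (P := MorphismProperty.isomorphisms Scheme)]
    refine ⟨?_, ?_⟩
    · rw [← hpre]
      exact W.2.preimage f
    · rw [morphismRestrict_appTop]
      haveI := hV _ (Scheme.Opens.ι_image_top _)
      infer_instance
  haveI : IsConnected (FIx f) := IsCofiltered.isConnected _
  exact ⟨isLimitOfReflects (Over.forget S) (hL.ofIsoLimit (Cone.ext (asIso h).symm fun k => by
    show L.π.app k = inv h ≫ (fObj f k).p.left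
    rw [← hfac k, IsIso.inv_hom_id_assoc]))⟩

end Groth.Agent.FPApproxLib
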