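import Groth.Agent.FPApproxLib.Step
import Groth.Agent.PullbackMod.Props

/-! Extension and approximation by finitely presented modules on quasi-compact quasi-separated schemes. -/

set_option autoImplicit false
set_option linter.style.haveILetI false
set_option backward.isDefEq.respectTransparency false

universe u

open CategoryTheory CategoryTheory.Limits AlgebraicGeometry TopologicalSpace Opposite ZeroObject

noncomputable section

namespace Groth.Agent.FPApproxLib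

variable {X : Scheme.{u}}

theorem isFP_of_fpOn {P : X.Modules} [Coh.IsQCoh P] (h : FPOn P ⊤) : CohB1.IsFP P := by
  choose T hT hxT _ hfp using fun x : X => h x trivial
  exact PullbackMod.isFP_of_finitePresentation P T hT
    (eq_top_iff.mpr fun x _ => Opens.mem_iSup.mpr ⟨x, hxT x⟩) hfp

theorem fpOn_of_isFP {P : X.Modules} [Coh.IsQCoh P] (h : CohB1.IsFP P) (V : X.Opens) : FPOn P V := fun x hx => by
  obtain ⟨_, ⟨T, hT, rfl⟩, hxT, hTV⟩ := X.isBasis_affineOpens.exists_subset_of_mem_open hx V.2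
  exact ⟨T, hT, hxT, hTV, QCohLib.finitePresentation_sections P h hT⟩

/-- A module finitely presented over a quasi-compact open becomes finitely presented without change there. -/
theorem exists_extend [CompactSpace X] [QuasiSeparatedSpace X] (P : X.Modules) [Coh.IsQCoh P] {V : X.Opens}
    (hV : IsCompact (V : Set X)) (hP : FPOn P V) :
    ∃ (P' : X.Modules) (ψ : P' ⟶ P), Coh.IsQCoh P' ∧ CohB1.IsFP P' ∧ ∀ T ≤ V, Function.Bijective (ψ.app T) := by
  classical
  have key : ∀ s : Finset X.affineOpens, ∃ (P' : X.Modules) (ψ : P' ⟶ P), Coh.IsQCoh P' ∧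
      IsCompact ((V ⊔ s.sup fun W => W.1 : X.Opens) : Set X) ∧ FPOn P' (V ⊔ s.sup fun W => W.1) ∧
      ∀ T ≤ V, Function.Bijective (ψ.app T) := by
    intro s
    induction s using Finset.induction with
    | empty => exact ⟨P, 𝟙 P, inferInstance, by simpa using hV, by simpa using hP, fun T _ => Function.bijective_id⟩
    | insert W s _ ih =>
      obtain ⟨P₁, ψ₁, hq, hc, hfp, hb⟩ := ih
      haveI := hq
      obtain ⟨P₂, ψ₂, hq₂, hb₂, hfp₂, -⟩ := exists_step P₁ hc hfp W.2 ∅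
      have e : V ⊔ (insert W s).sup (fun W : X.affineOpens => W.1) = (V ⊔ s.sup fun W => W.1) ⊔ W.1 := by
        rw [Finset.sup_insert, sup_comm W.1, sup_assoc]
      refine ⟨P₂, ψ₂ ≫ ψ₁, hq₂, ?_, e ▸ hfp₂, fun T hT => ?_⟩
      · rw [e, Opens.coe_sup]
        exact hc.union W.2.isCompact
      · show Function.Bijective (ψ₁.app T ∘ ψ₂.app T)
        exact (hb T hT).comp (hb₂ T (hT.trans le_sup_left))
  obtain ⟨s, hs⟩ := isCompact_univ.elim_finite_subcover
    (fun W : X.affineOpens => ((W : X.Opens) : Set X)) (fun W => W.1.isOpen) fun y _ => by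
      obtain ⟨_, ⟨W, hW, rfl⟩, hy, -⟩ :=
        X.isBasis_affineOpens.exists_subset_of_mem_open (Set.mem_univ y) isOpen_univ
      exact Set.mem_iUnion.mpr ⟨⟨W, hW⟩, hy⟩
  obtain ⟨P', ψ, hq, -, hfp, hb⟩ := key s
  haveI := hq
  have e : (⊤ : X.Opens) ≤ V ⊔ s.sup (fun W : X.affineOpens => W.1) := fun x _ => by
    obtain ⟨W, hW, hx⟩ := Set.mem_iUnion₂.mp (hs (Set.mem_univ x))
    exact le_sup_right (a := V) (Finset.le_sup (f := fun W : X.affineOpens => W.1) hW hx)
  exact ⟨P', ψ, hq, isFP_of_fpOn ((top_le_iff.mp e) ▸ hfp), hb⟩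

/-- A section over an affine open comes from a finitely presented module. -/
theorem exists_fp_hit [CompactSpace X] [QuasiSeparatedSpace X] (F : X.Modules) [Coh.IsQCoh F]
    {W : X.Opens} (hW : IsAffineOpen W) (s : Γ(F, W)) :
    ∃ (P : X.Modules) (ψ : P ⟶ F), Coh.IsQCoh P ∧ CohB1.IsFP P ∧ ∃ t, ψ.app W t = s := by
  obtain ⟨P₁, ψ₁, hq, -, hfp, hs⟩ := exists_step F (V := ⊥) (by simp) (fun x hx => absurd hx (by simp)) hW {s}
  haveI := hq
  rw [bot_sup_eq] at hfp
  obtain ⟨P₂, ψ₂, hq₂, hfp₂, hb⟩ := exists_extend P₁ hW.isCompact hfp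
  obtain ⟨t, ht⟩ := hs s (Finset.mem_singleton_self s)
  obtain ⟨t', rfl⟩ := (hb W le_rfl).2 t
  exact ⟨P₂, ψ₂ ≫ ψ₁, hq₂, hfp₂, t', ht⟩

theorem isFP_biprod {M N : X.Modules} [Coh.IsQCoh M] [Coh.IsQCoh N] (hM : CohB1.IsFP M) (hN : CohB1.IsFP N) :
    CohB1.IsFP (M ⊞ N) := by
  haveI : Coh.IsQCoh (M ⊞ N) := DCohLib.isQCoh_biprod' ‹_› ‹_›
  refine isFP_of_fpOn fun x hx => ?_
  obtain ⟨_, ⟨T, hT, rfl⟩, hxT, -⟩ := X.isBasis_affineOpens.exists_subset_of_mem_open hx (⊤ : X.Opens).2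
  haveI := QCohLib.finitePresentation_sections M hM hT
  haveI := QCohLib.finitePresentation_sections N hN hT
  let p1 := (biprod.fst : M ⊞ N ⟶ M)
  let p2 := (biprod.snd : M ⊞ N ⟶ N)
  let l : Γ(M ⊞ N, T) →ₗ[Γ(X, T)] Γ(M, T) × Γ(N, T) :=
    { toFun := fun a => (p1.app T a, p2.app T a)
      map_add' := fun a b => Prod.ext (map_add (p1.app T).hom a b) (map_add (p2.app T).hom a b)
      map_smul' := fun r a => Prod.ext (Scheme.Modules.Hom.app_smul p1 r a) (Scheme.Modules.Hom.app_smul p2 r a) }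
  have h1 : ∀ a, (biprod.inl : M ⟶ M ⊞ N).app T (p1.app T a) + (biprod.inr : N ⟶ M ⊞ N).app T (p2.app T a) = a :=
    fun a => congrArg (fun φ : M ⊞ N ⟶ M ⊞ N => φ.app T a) biprod.total
  have h2 : ∀ a b, l ((biprod.inl : M ⟶ M ⊞ N).app T a + (biprod.inr : N ⟶ M ⊞ N).app T b) = (a, b) := fun a b => by
    refine Prod.ext ?_ ?_
    · refine (map_add (p1.app T).hom _ _).trans ?_
      rw [show (p1.app T).hom ((biprod.inl : M ⟶ M ⊞ N).app T a) = a from
          congrArg (fun φ : M ⟶ M => φ.app T a) biprod.inl_fst,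
        show (p1.app T).hom ((biprod.inr : N ⟶ M ⊞ N).app T b) = 0 from
          congrArg (fun φ : N ⟶ M => φ.app T b) biprod.inr_fst, add_zero]
    · refine (map_add (p2.app T).hom _ _).trans ?_
      rw [show (p2.app T).hom ((biprod.inl : M ⟶ M ⊞ N).app T a) = 0 from
          congrArg (fun φ : M ⟶ N => φ.app T a) biprod.inl_snd,
        show (p2.app T).hom ((biprod.inr : N ⟶ M ⊞ N).app T b) = b from
          congrArg (fun φ : N ⟶ N => φ.app T b) biprod.inr_snd, zero_add]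
  refine ⟨T, hT, hxT, le_top, ?_⟩
  exact Module.FinitePresentation.of_equiv (LinearEquiv.ofBijective l
    ⟨fun a b h => by rw [← h1 a, ← h1 b]; exact congrArg (fun z : Γ(M, T) × Γ(N, T) =>
      (biprod.inl : M ⟶ M ⊞ N).app T z.1 + (biprod.inr : N ⟶ M ⊞ N).app T z.2) h,
     fun z => ⟨_, h2 z.1 z.2⟩⟩).symm

theorem isFP_zero : CohB1.IsFP (0 : X.Modules) := by
  haveI : Coh.IsQCoh (0 : X.Modules) := DCohLib.isQCoh_of_isZero' (isZero_zero _)
  refine isFP_of_fpOn fun x hx => ?_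
  obtain ⟨_, ⟨T, hT, rfl⟩, hxT, -⟩ := X.isBasis_affineOpens.exists_subset_of_mem_open hx (⊤ : X.Opens).2
  haveI : Subsingleton Γ((0 : X.Modules), T) := ⟨fun a b => by
    have h : ∀ c : Γ((0 : X.Modules), T), c = 0 := fun c =>
      congrArg (fun φ : (0 : X.Modules) ⟶ 0 => φ.app T c) ((isZero_zero X.Modules).eq_of_src (𝟙 _) 0)
    rw [h a, h b]⟩
  exact ⟨T, hT, hxT, le_top, Module.FinitePresentation.of_equiv
    (LinearEquiv.ofSubsingleton (Fin 0 → Γ(X, T)) Γ((0 : X.Modules), T))⟩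

/-- Finitely many sections come from one finitely presented module. -/
theorem exists_fp_through [CompactSpace X] [QuasiSeparatedSpace X] (F : X.Modules) [Coh.IsQCoh F]
    {ι : Type*} [Finite ι] (U : ι → X.Opens) (hU : ∀ a, IsAffineOpen (U a)) (s : ∀ a, Γ(F, U a)) :
    ∃ (P : X.Modules) (ψ : P ⟶ F), Coh.IsQCoh P ∧ CohB1.IsFP P ∧ ∀ a, ∃ t, ψ.app (U a) t = s a := by
  classical
  haveI := Fintype.ofFinite ι
  suffices ∀ A : Finset ι, ∃ (P : X.Modules) (ψ : P ⟶ F), Coh.IsQCoh P ∧ CohB1.IsFP P ∧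
      ∀ a ∈ A, ∃ t, ψ.app (U a) t = s a by
    obtain ⟨P, ψ, h1, h2, h3⟩ := this Finset.univ
    exact ⟨P, ψ, h1, h2, fun a => h3 a (Finset.mem_univ a)⟩
  intro A
  induction A using Finset.induction with
  | empty => exact ⟨0, 0, DCohLib.isQCoh_of_isZero' (isZero_zero _), isFP_zero, by simp⟩
  | insert a A _ ih =>
    obtain ⟨P, ψ, hq, hfp, hA⟩ := ih
    obtain ⟨P', ψ', hq', hfp', t', ht'⟩ := exists_fp_hit F (hU a) (s a)
    haveI := hq
    haveI := hq'
    refine ⟨P ⊞ P', biprod.desc ψ ψ', DCohLib.isQCoh_biprod' hq hq', isFP_biprod hfp hfp', fun b hb => ?_⟩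
    rcases Finset.mem_insert.mp hb with rfl | hb
    · refine ⟨(biprod.inr : P' ⟶ P ⊞ P').app _ t', ?_⟩
      exact (congrArg (fun φ : P' ⟶ F => φ.app (U b) t') (biprod.inr_desc ψ ψ')).trans ht'
    · obtain ⟨t, ht⟩ := hA b hb
      exact ⟨(biprod.inl : P ⟶ P ⊞ P').app _ t,
        (congrArg (fun φ : P ⟶ F => φ.app (U b) t) (biprod.inl_desc ψ ψ')).trans ht⟩

end Groth.Agent.FPApproxLib
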