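import Groth.Agent.QCohLib.FPSections
import Groth.Agent.TildeD.Main

/-! A map from a tilde module is bijective on the opens where it is so after localization. -/

set_option autoImplicit false
set_option linter.style.haveILetI false
set_option backward.isDefEq.respectTransparency false

universe u

open CategoryTheory CategoryTheory.Limits AlgebraicGeometry TopologicalSpace Opposite

noncomputable section

namespace Groth.Agent.FPApproxLib

variable {R : CommRingCat.{u}} (P : (Spec R).Modules) (N : ModuleCat.{u} R)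
  (f : N ⟶ (modulesSpecToSheaf.obj P).presheaf.obj (op ⊤))

/-- The map of modules given on global sections. -/
def liftTilde : tilde N ⟶ P := tilde.map f ≫ P.fromTildeΓ

theorem liftTilde_toOpen (U : (Spec R).Opens) (n : N) :
    ((modulesSpecToSheaf.map (liftTilde P N f)).1.app (op U)).hom ((tilde.toOpen N U).hom n) =
      ((modulesSpecToSheaf.obj P).presheaf.map (homOfLE le_top).op).hom (f.hom n) := by
  have h : tilde.toOpen N U ≫ (modulesSpecToSheaf.map (liftTilde P N f)).1.app (op U) =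
      f ≫ (modulesSpecToSheaf.obj P).presheaf.map (homOfLE le_top).op := by
    rw [liftTilde, Functor.map_comp, ObjectProperty.FullSubcategory.comp_hom, NatTrans.comp_app, ← Category.assoc,
      tilde.toOpen_map_app, Category.assoc, Scheme.Modules.toOpen_fromTildeΓ_app]
  exact congrArg (fun φ => φ.hom n) h

theorem bijective_liftTilde_basicOpen [Coh.IsQCoh P] (g : R)
    (hsurj : ∀ m, ∃ (k : ℕ) (n : N), f.hom n = g ^ k • m) (hinj : ∀ n : N, f.hom n = 0 → ∃ k : ℕ, g ^ k • n = 0) :
    Function.Bijective ((liftTilde P N f).app (PrimeSpectrum.basicOpen g)) := by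
  haveI : IsIso P.fromTildeΓ := isIso_fromTildeΓ_iff.mpr (by rw [essImage_tilde]; exact ‹Coh.IsQCoh P›)
  have hP : IsLocalizing (modulesSpecToSheaf.obj P) := (isIso_fromTildeΓ_iff_isLocalizing _).mp ‹_›
  haveI := hP g
  let φ := ((modulesSpecToSheaf.map (liftTilde P N f)).1.app (op (PrimeSpectrum.basicOpen g))).hom
  let ρ := ((modulesSpecToSheaf.obj P).presheaf.map (homOfLE (le_top : PrimeSpectrum.basicOpen g ≤ ⊤)).op).hom
  haveI : IsLocalizedModule (Submonoid.powers g) ρ := hP g
  have hc : ∀ n, φ ((tilde.toOpen N (PrimeSpectrum.basicOpen g)).hom n) = ρ (f.hom n) :=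
    liftTilde_toOpen P N f _
  show Function.Bijective φ
  refine ⟨(injective_iff_map_eq_zero _).mpr fun a ha => ?_, fun t => ?_⟩
  · obtain ⟨⟨n, ⟨_, k, rfl⟩⟩, hn⟩ :=
      IsLocalizedModule.surj (Submonoid.powers g) (tilde.toOpen N (PrimeSpectrum.basicOpen g)).hom a
    have hn' : g ^ k • a = (tilde.toOpen N (PrimeSpectrum.basicOpen g)).hom n := hn
    have h0 : ρ (f.hom n) = 0 := by rw [← hc, ← hn', map_smul, ha, smul_zero]
    obtain ⟨⟨_, l, rfl⟩, hl⟩ := (IsLocalizedModule.eq_zero_iff (Submonoid.powers g) ρ).mp h0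
    obtain ⟨j, hj⟩ := hinj (g ^ l • n) (by rw [map_smul]; exact hl)
    have h1 : g ^ (j + l + k) • a = 0 := by
      rw [pow_add, mul_smul, hn', ← map_smul, pow_add, mul_smul, hj, map_zero]
    have hu := IsLocalizedModule.map_units (tilde.toOpen N (PrimeSpectrum.basicOpen g)).hom
      (⟨g ^ (j + l + k), _, rfl⟩ : Submonoid.powers g)
    exact ((Module.End.isUnit_iff _).mp hu).1 (h1.trans (smul_zero (g ^ (j + l + k))).symm)
  · obtain ⟨⟨m, ⟨_, k, rfl⟩⟩, hm⟩ := IsLocalizedModule.surj (Submonoid.powers g) ρ t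
    have hm' : g ^ k • t = ρ m := hm
    obtain ⟨l, n, hn⟩ := hsurj m
    have hu := IsLocalizedModule.map_units (tilde.toOpen N (PrimeSpectrum.basicOpen g)).hom
      (⟨g ^ (l + k), _, rfl⟩ : Submonoid.powers g)
    obtain ⟨b, hb⟩ := ((Module.End.isUnit_iff _).mp hu).2 ((tilde.toOpen N (PrimeSpectrum.basicOpen g)).hom n)
    have hb' : g ^ (l + k) • b = (tilde.toOpen N (PrimeSpectrum.basicOpen g)).hom n := hb
    refine ⟨b, ?_⟩
    have hu2 := IsLocalizedModule.map_units ρ (⟨g ^ (l + k), _, rfl⟩ : Submonoid.powers g)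
    refine ((Module.End.isUnit_iff _).mp hu2).1 ?_
    show g ^ (l + k) • φ b = g ^ (l + k) • t
    rw [← map_smul, hb', hc, hn, map_smul, pow_add, mul_smul, hm']

theorem bijective_liftTilde [Coh.IsQCoh P] {ι : Type*} (g : ι → R)
    (hsurj : ∀ i m, ∃ (k : ℕ) (n : N), f.hom n = g i ^ k • m)
    (hinj : ∀ i, ∀ n : N, f.hom n = 0 → ∃ k : ℕ, g i ^ k • n = 0)
    (U : (Spec R).Opens) (hU : ∀ z ∈ U, ∃ i, z ∈ PrimeSpectrum.basicOpen (g i)) :
    Function.Bijective ((liftTilde P N f).app U) := by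
  let φ := (liftTilde P N f).mapPresheaf
  let α : (⟨(tilde N).presheaf, (tilde N).isSheaf⟩ : TopCat.Sheaf Ab (Spec R)) ⟶ ⟨P.presheaf, P.isSheaf⟩ := ⟨φ⟩
  have hbij : ∀ (i : ι) (r : R), Function.Bijective ((liftTilde P N f).app (PrimeSpectrum.basicOpen (g i * r))) := by
    intro i r
    refine bijective_liftTilde_basicOpen P N f _ (fun m => ?_) fun n hn => ?_
    · obtain ⟨k, n, hn⟩ := hsurj i m
      exact ⟨k, r ^ k • n, by rw [map_smul, hn, smul_smul, mul_pow, mul_comm]⟩
    · obtain ⟨k, hk⟩ := hinj i n hn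
      exact ⟨k, by rw [mul_pow, mul_comm, mul_smul, hk, smul_zero]⟩
  have hbasis : ∀ (V : (Spec R).Opens) (z : Spec R), z ∈ V → z ∈ U →
      ∃ (i : ι) (r : R), z ∈ PrimeSpectrum.basicOpen (g i * r) ∧ PrimeSpectrum.basicOpen (g i * r) ≤ V := by
    intro V z hzV hzU
    obtain ⟨i, hi⟩ := hU z hzU
    obtain ⟨_, ⟨_, ⟨r, rfl⟩, rfl⟩, hzr, hle⟩ :=
      PrimeSpectrum.isBasis_basic_opens.exists_subset_of_mem_open hzV V.2
    refine ⟨i, r, ?_, ?_⟩ <;> rw [PrimeSpectrum.basicOpen_mul]
    · exact ⟨hi, hzr⟩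
    · exact inf_le_right.trans hle
  refine TopCat.Presheaf.app_bijective_of_stalkFunctor_map_bijective α U fun z hz => ?_
  constructor
  · refine (injective_iff_map_eq_zero _).mpr fun a ha => ?_
    obtain ⟨V, hzV, s, rfl⟩ := TopCat.Presheaf.exists_germ_eq (tilde N).presheaf a
    rw [TopCat.Presheaf.stalkFunctor_map_germ_apply] at ha
    obtain ⟨W, hzW, iV, iV', hW⟩ := TopCat.Presheaf.germ_eq (X := (Spec R).carrier) P.presheaf z hzV hzV
      (φ.app (op V) s) 0 (ha.trans (map_zero _).symm)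
    obtain ⟨i, r, hzr, hle⟩ := hbasis W z hzW hz
    have h0 : (tilde N).presheaf.map (homOfLE (hle.trans iV.le)).op s = 0 := by
      refine (hbij i r).1 ?_
      rw [map_zero]
      have hn := ConcreteCategory.congr_hom (φ.naturality (homOfLE (hle.trans iV.le)).op) s
      refine hn.trans ?_
      show P.presheaf.map _ (φ.app (op V) s) = 0
      rw [show (homOfLE (hle.trans iV.le)).op = iV.op ≫ (homOfLE hle).op from rfl, Functor.map_comp,
        ConcreteCategory.comp_apply, hW, map_zero, map_zero]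
    rw [← TopCat.Presheaf.germ_res_apply (tilde N).presheaf (homOfLE (hle.trans iV.le)) z hzr, h0, map_zero]
  · intro b
    obtain ⟨V, hzV, t, rfl⟩ := TopCat.Presheaf.exists_germ_eq P.presheaf b
    obtain ⟨i, r, hzr, hle⟩ := hbasis V z hzV hz
    obtain ⟨s, hs⟩ := (hbij i r).2 (P.presheaf.map (homOfLE hle).op t)
    refine ⟨(tilde N).presheaf.germ _ z hzr s, ?_⟩
    rw [TopCat.Presheaf.stalkFunctor_map_germ_apply]
    refine (congrArg (P.presheaf.germ _ z hzr) hs).trans ?_
    exact TopCat.Presheaf.germ_res_apply P.presheaf (homOfLE hle) z hzr t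

end Groth.Agent.FPApproxLib
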