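import Groth.Agent.FPApproxLib.Alg
import Groth.Agent.FPApproxLib.Spec
import Groth.Agent.DCohLib.QCohAbelian
import Groth.Agent.QCohLib.Push
import Mathlib.CategoryTheory.Limits.Shapes.Pullback.IsPullback.BicartesianSq

/-! Making a quasi-coherent module finitely presented over one more affine open. -/

set_option autoImplicit false
set_option linter.style.haveILetI false
set_option backward.isDefEq.respectTransparency false

universe u

open CategoryTheory CategoryTheory.Limits AlgebraicGeometry TopologicalSpace Opposite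

noncomputable section

namespace Groth.Agent.FPApproxLib

variable {X : Scheme.{u}}

theorem fp_basicOpen (M : X.Modules) [Coh.IsQCoh M] {W : X.Opens} (hW : IsAffineOpen W)
    [Module.FinitePresentation Γ(X, W) Γ(M, W)] (a : Γ(X, W)) :
    Module.FinitePresentation Γ(X, X.basicOpen a) Γ(M, X.basicOpen a) := by
  letI := Module.compHom Γ(M, X.basicOpen a) (X.presheaf.map (homOfLE (X.basicOpen_le a)).op).hom
  letI : Algebra Γ(X, W) Γ(X, X.basicOpen a) := (X.presheaf.map (homOfLE (X.basicOpen_le a)).op).hom.toAlgebra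
  haveI : IsScalarTower Γ(X, W) Γ(X, X.basicOpen a) Γ(M, X.basicOpen a) :=
    .of_algebraMap_smul fun _ _ => rfl
  haveI : IsLocalization.Away a Γ(X, X.basicOpen a) := hW.isLocalization_basicOpen a
  obtain ⟨r, hr⟩ := QCohLib.exists_isLocalizedModule_res M hW a
  haveI := hr
  exact FinitePresentation.of_isBaseChange r
    (IsLocalizedModule.isBaseChange (Submonoid.powers a) Γ(X, X.basicOpen a) r)

theorem fp_of_eq (M : X.Modules) {U V : X.Opens} (h : U = V)
    (hU : Module.FinitePresentation Γ(X, U) Γ(M, U)) : Module.FinitePresentation Γ(X, V) Γ(M, V) := h ▸ hU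

theorem fp_of_bijective' {M N : X.Modules} (φ : M ⟶ N) {T : X.Opens} (h : Function.Bijective (φ.app T))
    (hN : Module.FinitePresentation Γ(X, T) Γ(N, T)) : Module.FinitePresentation Γ(X, T) Γ(M, T) := by
  haveI := hN
  let l : Γ(M, T) →ₗ[Γ(X, T)] Γ(N, T) :=
    { toFun := φ.app T, map_add' := fun a b => map_add _ a b,
      map_smul' := fun r a => Scheme.Modules.Hom.app_smul φ r a }
  exact Module.FinitePresentation.of_equiv (LinearEquiv.ofBijective l h).symm

/-- Finite presentation on the sections of enough affine opens inside `V`. -/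
def FPOn (P : X.Modules) (V : X.Opens) : Prop :=
  ∀ x ∈ V, ∃ T : X.Opens, IsAffineOpen T ∧ x ∈ T ∧ T ≤ V ∧ Module.FinitePresentation Γ(X, T) Γ(P, T)

theorem FPOn.of_bijective {M N : X.Modules} (φ : M ⟶ N) {V : X.Opens}
    (h : ∀ T ≤ V, Function.Bijective (φ.app T)) (hN : FPOn N V) : FPOn M V := fun x hx => by
  obtain ⟨T, hT, hxT, hTV, hfp⟩ := hN x hx
  exact ⟨T, hT, hxT, hTV, fp_of_bijective' φ (h T hTV) hfp⟩

/-- A linear map to global sections on a spectrum as a map of modules. -/
def toTopHom' {R : CommRingCat.{u}} (P : (Spec R).Modules) {N : Type u} [AddCommGroup N] [Module R N]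
    (ψ : N →ₗ[R] Γ(P, ⊤)) : ModuleCat.of R N ⟶ (modulesSpecToSheaf.obj P).presheaf.obj (op ⊤) :=
  (ModuleCat.ofHom ψ :)

theorem toTopHom'_apply {R : CommRingCat.{u}} (P : (Spec R).Modules) {N : Type u} [AddCommGroup N] [Module R N]
    (ψ : N →ₗ[R] Γ(P, ⊤)) (n : N) : (toTopHom' P ψ).hom n = ψ n := rfl

/-- Sections on an open as a functor. -/
def sectF (U : X.Opens) : X.Modules ⥤ Ab.{u} :=
  Scheme.Modules.toPresheaf X ⋙ (evaluation (X.Opensᵒᵖ) Ab.{u}).obj (op U)

instance (U : X.Opens) : PreservesLimitsOfShape WalkingCospan (sectF U) := by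
  haveI : HasLimitsOfShape WalkingCospan Ab.{u} := inferInstance
  haveI : PreservesLimitsOfShape WalkingCospan ((evaluation (TopologicalSpace.Opens X)ᵒᵖ Ab.{u}).obj (op U)) :=
    inferInstance
  haveI : PreservesLimitsOfSize.{0, 0} (Scheme.Modules.toPresheaf X) := preservesSmallestLimits_of_preservesLimits _
  unfold sectF
  exact comp_preservesLimitsOfShape _ _

theorem bijective_fst {A B C : X.Modules} (η : A ⟶ C) (h : B ⟶ C) {T : X.Opens}
    (hh : Function.Bijective (h.app T)) : Function.Bijective ((pullback.fst η h).app T) := by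
  have hp := (IsPullback.of_hasPullback η h).map (sectF T)
  haveI : IsIso ((sectF T).map h) := (ConcreteCategory.isIso_iff_bijective _).mpr hh
  haveI := hp.isIso_fst_of_isIso
  exact ConcreteCategory.bijective_of_isIso ((sectF T).map (pullback.fst η h))

theorem bijective_snd {A B C : X.Modules} (η : A ⟶ C) (h : B ⟶ C) {T : X.Opens}
    (hη : Function.Bijective (η.app T)) : Function.Bijective ((pullback.snd η h).app T) := by
  have hp := (IsPullback.of_hasPullback η h).map (sectF T)
  haveI : IsIso ((sectF T).map η) := (ConcreteCategory.isIso_iff_bijective _).mpr hη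
  haveI := hp.isIso_snd_of_isIso
  exact ConcreteCategory.bijective_of_isIso ((sectF T).map (pullback.snd η h))

theorem isQCoh_pullback' {A B C : X.Modules} (η : A ⟶ C) (h : B ⟶ C) (hA : Coh.IsQCoh A) (hB : Coh.IsQCoh B)
    (hC : Coh.IsQCoh C) : Coh.IsQCoh (pullback η h) :=
  DCohLib.isQCoh_of_iso'
    (M := kernel (biprod.desc η (-h))) (N := (Abelian.PullbackToBiproductIsKernel.pullbackToBiproductFork η h).pt)
    (IsLimit.conePointUniqueUpToIso (limit.isLimit (parallelPair (biprod.desc η (-h)) 0))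
      (Abelian.PullbackToBiproductIsKernel.isLimitPullbackToBiproduct η h))
    (QCohLib.isQCoh_image _ (DCohLib.isQCoh_biprod' hA hB) hC).1

theorem quasiCompact_fromSpec [QuasiSeparatedSpace X] {W : X.Opens} (hW : IsAffineOpen W) :
    QuasiCompact hW.fromSpec := by
  refine (quasiCompact_iff _).2 fun U hU hUc => ?_
  rw [hW.fromSpec.isOpenEmbedding.isInducing.isCompact_iff]
  have h1 := QuasiSeparatedSpace.inter_isCompact (W : Set X) U W.2 hW.isCompact hU hUc
  convert h1 using 1
  rw [Set.image_preimage_eq_inter_range, hW.range_fromSpec, Set.inter_comm]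

theorem bijective_unit {W : X.Opens} (hW : IsAffineOpen W) (P : X.Modules) {T : X.Opens} (hT : T ≤ W) :
    Function.Bijective (((Scheme.Modules.restrictAdjunction hW.fromSpec).unit.app P).app T) := by
  have h : hW.fromSpec ''ᵁ (hW.fromSpec ⁻¹ᵁ T) = T := by
    rw [Scheme.Hom.image_preimage_eq_opensRange_inf, hW.opensRange_fromSpec, inf_eq_right]
    exact hT
  haveI : IsIso (homOfLE (hW.fromSpec.image_preimage_le T)) := by
    rw [Subsingleton.elim (homOfLE (hW.fromSpec.image_preimage_le T)) (eqToHom h)]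
    infer_instance
  rw [Scheme.Modules.restrictAdjunction_unit_app_app]
  exact ConcreteCategory.bijective_of_isIso (P.presheaf.map (homOfLE (hW.fromSpec.image_preimage_le T)).op)

/-- One more affine open. -/
theorem exists_step [CompactSpace X] [QuasiSeparatedSpace X] (P : X.Modules) [Coh.IsQCoh P] {V : X.Opens}
    (hV : IsCompact (V : Set X)) (hP : FPOn P V) {W : X.Opens} (hW : IsAffineOpen W) (S : Finset Γ(P, W)) :
    ∃ (P' : X.Modules) (ψ : P' ⟶ P), Coh.IsQCoh P' ∧ (∀ T ≤ V, Function.Bijective (ψ.app T)) ∧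
      FPOn P' (V ⊔ W) ∧ ∀ s ∈ S, ∃ t, ψ.app W t = s := by
  classical
  have hloc : ∀ x : X, x ∈ V ⊓ W → ∃ a : Γ(X, W), x ∈ X.basicOpen a ∧
      Module.FinitePresentation Γ(X, X.basicOpen a) Γ(P, X.basicOpen a) := fun x hx => by
    obtain ⟨T, hT, hxT, -, hfp⟩ := hP x hx.1
    obtain ⟨a, b, e, hxa⟩ := exists_basicOpen_le_affine_inter hW hT x ⟨hx.2, hxT⟩
    haveI := hfp
    exact ⟨a, hxa, fp_of_eq P e.symm (fp_basicOpen P hT b)⟩
  choose a hxa hfpa using hloc
  obtain ⟨t, ht⟩ := (show IsCompact ((V ⊓ W : X.Opens) : Set X) from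
    QuasiSeparatedSpace.inter_isCompact _ _ V.2 hV W.2 hW.isCompact).elim_finite_subcover
    (fun x : ↥(V ⊓ W) => ((X.basicOpen (a x.1 x.2) : X.Opens) : Set X)) (fun x => (X.basicOpen _).isOpen)
    fun x hx => Set.mem_iUnion.mpr ⟨⟨x, hx⟩, hxa x hx⟩
  let g : t → Γ(X, W) := fun i => a i.1.1 i.1.2
  letI : ∀ i, Module Γ(X, W) Γ(P, X.basicOpen (g i)) := fun i =>
    Module.compHom Γ(P, X.basicOpen (g i)) (X.presheaf.map (homOfLE (X.basicOpen_le (g i))).op).hom
  letI : ∀ i, Algebra Γ(X, W) Γ(X, X.basicOpen (g i)) := fun i =>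
    (X.presheaf.map (homOfLE (X.basicOpen_le (g i))).op).hom.toAlgebra
  haveI : ∀ i, IsScalarTower Γ(X, W) Γ(X, X.basicOpen (g i)) Γ(P, X.basicOpen (g i)) :=
    fun i => .of_algebraMap_smul fun _ _ => rfl
  haveI : ∀ i, IsLocalization.Away (g i) Γ(X, X.basicOpen (g i)) := fun i => hW.isLocalization_basicOpen (g i)
  choose r hr using fun i => QCohLib.exists_isLocalizedModule_res P hW (g i)
  haveI : ∀ i, IsLocalizedModule.Away (g i) (r i) := hr
  haveI : ∀ i, Module.FinitePresentation Γ(X, X.basicOpen (g i)) Γ(P, X.basicOpen (g i)) :=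
    fun i => hfpa i.1.1 i.1.2
  obtain ⟨N, _, _, f, hN, hS, hsurj, hinj⟩ := exists_fp_model g (fun i => Γ(X, X.basicOpen (g i)))
    (fun i => Γ(P, X.basicOpen (g i))) r S
  let j := hW.fromSpec
  let Pj := P.restrict j
  let e₀ := QCohLib.topEquiv P hW
  let f' : ModuleCat.of Γ(X, W) N ⟶ (modulesSpecToSheaf.obj Pj).presheaf.obj (op ⊤) :=
    toTopHom' Pj (e₀.symm.toLinearMap ∘ₗ f)
  let α := liftTilde Pj (ModuleCat.of Γ(X, W) N) f'
  let η := (Scheme.Modules.restrictAdjunction j).unit.app P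
  let h := (Scheme.Modules.pushforward j).map α
  haveI := quasiCompact_fromSpec hW
  haveI hQ : Coh.IsQCoh ((Scheme.Modules.pushforward j).obj (tilde (ModuleCat.of Γ(X, W) N))) := by
    haveI : Coh.IsQCoh (tilde (ModuleCat.of Γ(X, W) N)) :=
      inferInstanceAs ((tilde (ModuleCat.of Γ(X, W) N)).IsQuasicoherent)
    exact QCohLib.isQCoh_pushforward _ j
  have hR : Coh.IsQCoh ((Scheme.Modules.pushforward j).obj Pj) := QCohLib.isQCoh_pushforward _ j
  have hh : ∀ T ≤ V, Function.Bijective (h.app T) := fun T hT => by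
    refine bijective_liftTilde Pj _ f' g (fun i m => ?_) (fun i n hn => ?_) (j ⁻¹ᵁ T) fun z hz => ?_
    · obtain ⟨k, n, hn⟩ := hsurj i (e₀ m)
      refine ⟨k, n, ?_⟩
      show e₀.symm (f n) = _
      rw [hn, map_smul, LinearEquiv.symm_apply_apply]
    · exact hinj i n (e₀.symm.injective (hn.trans (map_zero _).symm))
    · have hzW : j z ∈ W := hW.range_fromSpec.le ⟨z, rfl⟩
      obtain ⟨i, hi, hzi⟩ := Set.mem_iUnion₂.mp (ht (show j z ∈ V ⊓ W from ⟨hT hz, hzW⟩))
      refine ⟨⟨i, hi⟩, ?_⟩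
      rw [← hW.fromSpec_preimage_basicOpen]
      exact hzi
  have hη : ∀ T ≤ W, Function.Bijective (η.app T) := fun T hT => bijective_unit hW P hT
  refine ⟨Limits.pullback η h, pullback.fst η h, isQCoh_pullback' η h ‹Coh.IsQCoh P› hQ hR,
    fun T hT => bijective_fst η h (hh T hT), ?_, fun s hs => ?_⟩
  · rintro x (hx | hx)
    · obtain ⟨T, hT, hxT, hTV, hfp⟩ := hP x hx
      exact ⟨T, hT, hxT, hTV.trans le_sup_left, fp_of_bijective' _ (bijective_fst η h (hh T hTV)) hfp⟩
    · refine ⟨W, hW, hx, le_sup_right, fp_of_bijective' _ (bijective_snd η h (hη W le_rfl)) ?_⟩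
      let Q := (Scheme.Modules.pushforward j).obj (tilde (ModuleCat.of Γ(X, W) N))
      let e₁ : Q.restrict j ≅ tilde (ModuleCat.of Γ(X, W) N) :=
        asIso ((Scheme.Modules.restrictAdjunction j).counit.app (tilde (ModuleCat.of Γ(X, W) N)))
      let e₂ : ModuleCat.of Γ(X, W) N ≅ (modulesSpecToSheaf.obj (Q.restrict j)).presheaf.obj (op ⊤) :=
        tilde.isoTop _ ≪≫ ((sheafToPresheaf _ _).mapIso (modulesSpecToSheaf.mapIso e₁.symm)).app (op ⊤)
      haveI := hN
      haveI : Module.FinitePresentation Γ(X, W) Γ(Q.restrict j, ⊤) :=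
        Module.FinitePresentation.of_equiv e₂.toLinearEquiv
      exact Module.FinitePresentation.of_equiv (QCohLib.topEquiv Q hW)
  · obtain ⟨n, hn⟩ := hS hs
    let q : Γ(tilde (ModuleCat.of Γ(X, W) N), j ⁻¹ᵁ W) :=
      (tilde.toOpen (ModuleCat.of Γ(X, W) N) (j ⁻¹ᵁ W)).hom n
    obtain ⟨w, hw⟩ := (bijective_snd η h (hη W le_rfl)).2 q
    refine ⟨w, (hη W le_rfl).1 ?_⟩
    have hc : η.app W ((pullback.fst η h).app W w) = h.app W ((pullback.snd η h).app W w) :=
      ConcreteCategory.congr_hom (congrArg (fun φ => φ.app W) (pullback.condition (f := η) (g := h))) w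
    refine hc.trans ?_
    rw [hw]
    refine (liftTilde_toOpen Pj (ModuleCat.of Γ(X, W) N) f' (j ⁻¹ᵁ W) n).trans ?_
    show Pj.presheaf.map (homOfLE le_top).op (e₀.symm (f n)) = _
    rw [hn]
    show P.presheaf.map _ (P.presheaf.map _ s) = P.presheaf.map _ s
    rw [← ConcreteCategory.comp_apply, ← Functor.map_comp]
    rfl

end Groth.Agent.FPApproxLib
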